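import Cfsg.Agent.Lib.CoprimeClass.Gen

/-!
# The pieces act nilpotently
-/

set_option autoImplicit false

namespace CfsgLib.CoprimeClass

open Subgroup
open scoped commutatorElement

universe u

variable {X : Type u} [Group X]

/-- The iterated commutators of `W` with `U`. -/
def itc (U W : Subgroup X) : ℕ → Subgroup X
  | 0 => W
  | n + 1 => ⁅itc U W n, U⁆

theorem itc_mono {U U' W W' : Subgroup X} (hU : U ≤ U') (hW : W ≤ W') :
    ∀ n, itc U W n ≤ itc U' W' n
  | 0 => hW
  | n + 1 => commutator_mono (itc_mono hU hW n) hU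

theorem itc_add (U W : Subgroup X) (a : ℕ) : ∀ b, itc U (itc U W a) b = itc U W (a + b)
  | 0 => rfl
  | b + 1 => congrArg (fun Y => ⁅Y, U⁆) (itc_add U W a b)

theorem itc_bot (U : Subgroup X) : ∀ n, itc U ⊥ n = ⊥
  | 0 => rfl
  | n + 1 => by
    show ⁅itc U ⊥ n, U⁆ = ⊥
    rw [itc_bot U n, commutator_bot_left]

theorem itc_eq_bot_mono {U W : Subgroup X} {a b : ℕ} (h : itc U W a = ⊥) (hab : a ≤ b) :
    itc U W b = ⊥ := by
  obtain ⟨e, rfl⟩ := Nat.exists_eq_add_of_le hab
  rw [← itc_add, h, itc_bot]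

theorem itc_normalizer {M U W : Subgroup X} (hU : M ≤ normalizer (U : Set X))
    (hW : M ≤ normalizer (W : Set X)) : ∀ n, M ≤ normalizer (itc U W n : Set X)
  | 0 => hW
  | n + 1 => le_normalizer_commutator (itc_normalizer hU hW n) hU

theorem itc_le {U W : Subgroup X} (h : U ≤ normalizer (W : Set X)) : ∀ n, itc U W n ≤ W
  | 0 => le_rfl
  | n + 1 => (commutator_mono (itc_le h n) le_rfl).trans (le_normalizer_iff_commutator_le_left.1 h)

theorem commutator_sup_sup_le {H₁ H₂ K₁ K₂ W : Subgroup X} (h₁₁ : ⁅H₁, K₁⁆ ≤ W) (h₁₂ : ⁅H₁, K₂⁆ ≤ W)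
    (h₂₁ : ⁅H₂, K₁⁆ ≤ W) (h₂₂ : ⁅H₂, K₂⁆ ≤ W) (n₁ : H₁ ≤ normalizer (W : Set X))
    (n₂ : H₂ ≤ normalizer (W : Set X)) (m₁ : K₁ ≤ normalizer (W : Set X))
    (m₂ : K₂ ≤ normalizer (W : Set X)) : ⁅H₁ ⊔ H₂, K₁ ⊔ K₂⁆ ≤ W := by
  rw [sup_eq_iSup H₁ H₂, sup_eq_iSup K₁ K₂]
  refine commutator_iSup_le (fun a b => ?_) (fun a => ?_) fun b => ?_
  · cases a <;> cases b <;> assumption
  · cases a <;> assumption
  · cases b <;> assumption

/-- A product of normal subgroups each acting nilpotently acts nilpotently. -/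
theorem itc_sup_eq_bot {ι : Type*} {U W : Subgroup X} {P : ι → Subgroup X} (hPU : ∀ b, P b ≤ U)
    (hUP : ∀ b, U ≤ normalizer (P b : Set X)) (hUW : U ≤ normalizer (W : Set X)) {e : ℕ} (he : 1 ≤ e)
    (h : ∀ b, itc (P b) W e = ⊥) :
    ∀ s : Finset ι, itc (s.sup P) W (e ^ s.card) = ⊥ := by
  classical
  intro s
  induction s using Finset.induction_on with
  | empty =>
    rw [Finset.sup_empty, Finset.card_empty, pow_zero]
    exact commutator_bot_right W
  | insert b s hb ih =>
    set S := s.sup P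
    have hSU : S ≤ U := Finset.sup_le fun a _ => hPU a
    have hUS : U ≤ normalizer (S : Set X) := by
      simp only [S, Finset.sup_eq_iSup]
      exact le_normalizer_iSup fun a => le_normalizer_iSup fun _ => hUP a
    set f := e ^ s.card
    have hWj : ∀ j, U ≤ normalizer (itc (P b) W j : Set X) := itc_normalizer (hUP b) hUW
    have hjW : ∀ j, itc (P b) W j ≤ W := itc_le ((hPU b).trans hUW)
    have step : ∀ j, itc (P b ⊔ S) (itc (P b) W j) f ≤ itc (P b) W (j + 1) := by
      intro j
      set Wj := itc (P b) W j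
      set W' := itc (P b) W (j + 1)
      have hW'Wj : W' ≤ Wj := le_normalizer_iff_commutator_le_left.1 ((hPU b).trans (hWj j))
      have hn : ∀ n, itc (P b ⊔ S) Wj n ≤ W' ⊔ itc S Wj n := by
        intro n
        induction n with
        | zero => exact le_sup_right
        | succ n ihn =>
          set Y := itc S Wj n
          have hY : Y ≤ Wj := itc_le (hSU.trans (hWj j)) n
          have hUY : U ≤ normalizer ((W' ⊔ itc S Wj (n + 1) : Subgroup X) : Set X) :=
            CfsgLib.Comp.le_normalizer_sup (hWj (j + 1)) (itc_normalizer hUS (hWj j) (n + 1))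
          refine (commutator_mono ihn le_rfl).trans (commutator_sup_sup_le ?_ ?_ ?_ ?_ ?_ ?_
            ((hPU b).trans hUY) (hSU.trans hUY))
          · exact ((le_normalizer_iff_commutator_le_left.1 ((hPU b).trans (hWj (j + 1)))).trans le_sup_left)
          · exact ((le_normalizer_iff_commutator_le_left.1 (hSU.trans (hWj (j + 1)))).trans le_sup_left)
          · exact (commutator_mono hY le_rfl).trans le_sup_left
          · exact le_sup_right
          · exact le_sup_left.trans le_normalizer
          · exact CfsgLib.Comp.le_normalizer_sup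
              (hY.trans (normalizer_commutator_ge_left Wj (P b))) (normalizer_commutator_ge_left Y S)
      refine (hn f).trans (sup_le le_rfl ?_)
      rw [eq_bot_iff.2 ((itc_mono le_rfl (hjW j) f).trans ih.le)]
      exact bot_le
    have hmul : ∀ j, itc (P b ⊔ S) W (j * f) ≤ itc (P b) W j := by
      intro j
      induction j with
      | zero => rw [Nat.zero_mul]; exact le_rfl
      | succ j ihj =>
        rw [Nat.succ_mul, ← itc_add]
        exact (itc_mono le_rfl ihj f).trans (step j)
    rw [Finset.sup_insert, Finset.card_insert_of_notMem hb, pow_succ, mul_comm]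
    exact eq_bot_iff.2 ((hmul e).trans (h b).le)

/-- An element acting nilpotently on an abelian subgroup of exponent `q` induces a `q`-element. -/
theorem pow_centralizes {V Q : Subgroup X} (hQV : Q ≤ normalizer (V : Set X))
    (hV : ∀ a ∈ V, ∀ b ∈ V, a * b = b * a) {q : ℕ} (hq : ∀ v ∈ V, v ^ q = 1) {x : X} (hx : x ∈ Q) :
    ∀ (n : ℕ) (W : Subgroup X), W ≤ V → itc Q W n = ⊥ → ∀ v ∈ W, x ^ q ^ n * v = v * x ^ q ^ n := by
  intro n
  induction n with
  | zero =>
    intro W _ h v hv
    rw [show W = ⊥ from h, mem_bot] at hv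
    rw [hv, mul_one, one_mul]
  | succ n ih =>
    intro W hW h v hv
    have hW' : ⁅W, Q⁆ ≤ V :=
      (commutator_mono hW le_rfl).trans (le_normalizer_iff_commutator_le_left.1 hQV)
    have h' : itc Q ⁅W, Q⁆ n = ⊥ := by
      rw [show ⁅W, Q⁆ = itc Q W 1 from rfl, itc_add, add_comm]
      exact h
    have ih' := ih _ hW' h'
    set y := x ^ q ^ n with hy
    have hw : ⁅x, v⁆ ∈ ⁅W, Q⁆ := by rw [commutator_comm]; exact commutator_mem_commutator hx hv
    have hyV : y ∈ normalizer (V : Set X) := pow_mem (hQV hx) _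
    have huV : ⁅y, v⁆ ∈ V := mul_mem ((mem_normalizer_iff.1 hyV v).1 (hW hv)) (inv_mem (hW hv))
    have hc : x * ⁅y, v⁆ * x⁻¹ = ⁅y, v⁆ := by
      have hxy : x * y = y * x := by rw [hy, ← pow_succ', pow_succ]
      have hxy' : y⁻¹ * x⁻¹ = x⁻¹ * y⁻¹ := by rw [← mul_inv_rev, hxy, mul_inv_rev]
      calc x * ⁅y, v⁆ * x⁻¹ = (x * y) * v * (y⁻¹ * x⁻¹) * (x * v * x⁻¹)⁻¹ := by
            simp only [commutatorElement_def]; group
        _ = (y * ⁅x, v⁆) * v * y⁻¹ * (x * v * x⁻¹)⁻¹ := by
            rw [hxy, hxy']; simp only [commutatorElement_def]; group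
        _ = (⁅x, v⁆ * y) * v * y⁻¹ * (x * v * x⁻¹)⁻¹ := by rw [ih' _ hw]
        _ = ⁅x, v⁆ * ⁅y, v⁆ * ⁅x, v⁆⁻¹ := by simp only [commutatorElement_def]; group
        _ = ⁅y, v⁆ := by rw [hV _ (hW' hw) _ huV, mul_inv_cancel_right]
    have hyu : y * ⁅y, v⁆ = ⁅y, v⁆ * y := by
      have hcx : Commute x ⁅y, v⁆ := mul_inv_eq_iff_eq_mul.1 hc
      exact hcx.pow_left _
    have hpow : ∀ m : ℕ, y ^ m * v = ⁅y, v⁆ ^ m * v * y ^ m := by
      intro m
      induction m with
      | zero => simp
      | succ m ihm =>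
        rw [pow_succ', mul_assoc, ihm, ← mul_assoc, ← mul_assoc,
          (show Commute y ⁅y, v⁆ from hyu).pow_right m |>.eq, mul_assoc (⁅y, v⁆ ^ m),
          show y * v = ⁅y, v⁆ * v * y by simp only [commutatorElement_def]; group,
          pow_succ ⁅y, v⁆]
        group
    rw [pow_succ q, pow_mul, ← hy, hpow q, hq _ huV, one_mul]

section Bound

variable [Finite X] {D : Data} {A G : Subgroup X}

/-- The bound for the action of the joins of pieces. -/
def actBound (D : Data) (c : ℕ) : ℕ := (c + 1) ^ 2 ^ (D.p ^ D.k)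

/-- The hypothesis on the fixed points of the elements. -/
def FixClass (D : Data) (c : ℕ) (A G : Subgroup X) : Prop :=
  ∀ a ∈ A, a ≠ 1 → (T D.dv (cG G (zpowers a)) D.d).lowerCentralSeries c = ⊥

/-- The joins of pieces act nilpotently on the fixed points of intersections. -/
theorem itc_Q_eq_bot (h : Setup D A G) (hD : D.Valid) (hr : 2 ≤ D.r D.d) {c : ℕ}
    (hc : FixClass D c A G) {K H : Subgroup X} (hK : K ≤ A) (hH : IsHyp D A H) :
    itc (Q D G K D.d) (cG G (K ⊓ H)) (actBound D c) = ⊥ := by
  classical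
  set W := cG G (K ⊓ H)
  let ι := {B : Subgroup X // B ≤ K ∧ D.p ^ D.r D.d ≤ Nat.card B}
  let P : ι → Subgroup X := fun B => T D.dv (cG G B.1) D.d ⊓ centralizer (K : Set X)
  have : Fintype ι := Fintype.ofFinite ι
  have hQ : Q D G K D.d = Finset.univ.sup P := by rw [Finset.sup_univ_eq_iSup]; rfl
  have hone : ∀ B, itc (P B) W (c + 1) = ⊥ := by
    intro B
    have h1 : D.p ^ 1 ≤ Nat.card ↥(B.1 ⊓ H) :=
      card_inf_ge h hD (B.2.1.trans hK) hH.1 (a := D.r D.d) (b := D.k - 1) B.2.2 hH.2
        (by have := hD.hk; omega)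
    have hne : B.1 ⊓ H ≠ ⊥ := by
      intro e
      rw [e, card_bot, pow_one] at h1
      exact absurd hD.prime.one_lt (by omega)
    obtain ⟨a, ha, ha1⟩ := CfsgLib.Comp.exists_mem_ne_one hne
    set C := cG G (zpowers a)
    set Na := T D.dv C D.d
    have hWC : W ≤ C := cG_anti G (zpowers_le.2 ⟨B.2.1 ha.1, ha.2⟩)
    have hPN : P B ≤ Na := inf_le_left.trans (T_mono _ (cG_anti G (zpowers_le.2 ha.1)) _)
    have h2 : ∀ n, itc (P B) W (n + 1) ≤ Na.lowerCentralSeries n := by
      intro n
      induction n with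
      | zero =>
        exact (commutator_mono hWC hPN).trans
          (le_normalizer_iff_commutator_le_right.1 (T_normalizer le_normalizer _))
      | succ n ihn => exact commutator_mono ihn hPN
    exact eq_bot_iff.2 ((h2 c).trans (hc a (hK (B.2.1 ha.1)) ha1).le)
  have h3 := itc_sup_eq_bot (U := cG G K) (W := W) (P := P) (e := c + 1)
    (fun B => inf_le_inf_right _ ((T_le _ _ _).trans (cG_le G B.1)))
    (fun B => cG_le_normalizer_piece D G B.2.1 _)
    ((cG_anti G inf_le_left).trans le_normalizer) (by omega) hone Finset.univ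
  rw [hQ]
  refine itc_eq_bot_mono h3 (Nat.pow_le_pow_right (by omega) ?_)
  rw [Finset.card_univ, ← Nat.card_eq_fintype_card]
  have hinj : Function.Injective (fun B : ι => ((B.1.subgroupOf A : Subgroup A) : Set A)) := by
    intro B B' e
    refine Subtype.ext ?_
    have e' := congrArg (Subgroup.map A.subtype) (SetLike.coe_injective e)
    rw [subgroupOf_map_subtype, subgroupOf_map_subtype, inf_eq_left.2 (B.2.1.trans hK),
      inf_eq_left.2 (B'.2.1.trans hK)] at e'
    exact e'
  refine (Nat.card_le_card_of_injective _ hinj).trans (le_of_eq ?_)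
  have : Fintype A := Fintype.ofFinite A
  rw [Nat.card_eq_fintype_card, Fintype.card_set, ← Nat.card_eq_fintype_card, h.card]

/-- The term of the series is nilpotent. -/
theorem isNilpotent_T {D : Data} (hD : D.Valid) (hr : 2 ≤ D.r D.d) {c : ℕ} :
    ∀ (X : Type u) [Group X] [Finite X] (A G : Subgroup X), Setup D A G → Group.IsSolvable G →
      FixClass D c A G → ∃ n, (T D.dv G D.d).lowerCentralSeries n = ⊥ := by
  intro X _ _ A G
  induction hm : Nat.card G using Nat.strong_induction_on generalizing X with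
  | _ m ihm =>
    intro h hs hc
    have := h.normal
    set N := T D.dv G D.d with hNdef
    have hNn : N.Normal := T_normal _ G _
    by_cases hG : G = ⊥
    · exact ⟨0, eq_bot_iff.2 ((T_le _ G _).trans hG.le)⟩
    obtain ⟨V, hVn, hVG, hV0, hVab, hVmin, q, hq, hVq⟩ := exists_minimal_normal hs hG
    have := Fact.mk hq
    let f := QuotientGroup.mk' V
    have hfs : Function.Surjective f := QuotientGroup.mk'_surjective V
    have hfA : ∀ x ∈ A, f x = 1 → x = 1 := by
      intro x hx hfx
      have := CfsgLib.Coprime.inf_eq_bot_of_coprime (h.coprime hD le_rfl hVG)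
      exact (mem_bot.1 (this ▸ (⟨hx, (QuotientGroup.eq_one_iff x).1 hfx⟩ : x ∈ A ⊓ V)))
    have hlt : Nat.card ↥(G.map f) < m := by
      subst hm
      refine lt_of_le_of_ne (Nat.le_of_dvd Nat.card_pos (card_map_dvd G f)) fun e => hV0 ?_
      rw [eq_bot_iff]
      intro v hv
      have := @((Nat.bijective_iff_surjective_and_card _).2 ⟨f.subgroupMap_surjective G, e.symm⟩).1
        ⟨v, hVG hv⟩ 1 (Subtype.ext (by simpa [f] using hv))
      exact congrArg Subtype.val this
    have hc' : FixClass D c (A.map f) (G.map f) := by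
      rintro _ ⟨a, ha, rfl⟩ ha1
      have hz : zpowers a ≤ A := zpowers_le.2 ha
      have e : cG (G.map f) (zpowers (f a)) = (cG G (zpowers a)).map f := by
        rw [cG, cG, CfsgLib.Coprime.map_inf_centralizer f (hz.trans h.le_normalizer)
          (h.coprime hD hz le_rfl) (Or.inl (h.solvable hD hz)), MonoidHom.map_zpowers]
      rw [e, ← T_map, ← map_lowerCentralSeries, hc a ha (fun e => ha1 (by rw [e, map_one])),
        Subgroup.map_bot]
    obtain ⟨n, hn⟩ := ihm _ hlt (X ⧸ V) (A.map f) (G.map f) rfl (setup_map hfs h hfA)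
      (solvable_of_surjective (f.subgroupMap_surjective G)) hc'
    rw [← T_map, ← map_lowerCentralSeries, Subgroup.map_eq_bot_iff, QuotientGroup.ker_mk'] at hn
    have hγ : N.lowerCentralSeries n ≤ N :=
      (Subgroup.lowerCentralSeries_antitone N (Nat.zero_le n)).trans le_rfl
    rcases hVmin (V ⊓ N) inferInstance inf_le_left with e | e
    · exact ⟨n, eq_bot_iff.2 ((le_inf hn hγ).trans e.le)⟩
    have hVN : V ≤ N := inf_eq_left.1 e
    rcases hVmin ⁅V, N⁆ inferInstance (commutator_le_left V _) with e' | e'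
    · exact ⟨n + 1, eq_bot_iff.2 ((commutator_mono hn le_rfl).trans e'.le)⟩
    exfalso
    -- the group induced on `V` is a `q`-group
    let C : Subgroup N := (centralizer (V : Set X)).subgroupOf N
    have hCn : C.Normal := by
      have : (centralizer (V : Set X)).Normal := inferInstance
      exact this.subgroupOf N
    let g := QuotientGroup.mk' C
    have hgs : Function.Surjective g := QuotientGroup.mk'_surjective C
    have hnil : Group.IsNilpotent (N ⧸ C) := by
      refine Subgroup.nilpotent_iff_lowerCentralSeries.2 ⟨n, ?_⟩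
      rw [← Subgroup.map_top_of_surjective g hgs, ← map_lowerCentralSeries, Subgroup.map_eq_bot_iff,
        QuotientGroup.ker_mk']
      intro y hy
      have h1 : (y : X) ∈ N.lowerCentralSeries n := by
        rw [← Subgroup.top_subtype_lowerCentralSeries]; exact mem_map_of_mem N.subtype hy
      exact mem_centralizer_iff.2 fun v hv => hVab v hv _ (hn h1)
    obtain ⟨P⟩ : Nonempty (Sylow q N) := inferInstance
    let Pq := P.mapSurjective hgs
    have hPqn : (Pq : Subgroup (N ⧸ C)).Normal :=
      Sylow.normal_of_normalizerCondition normalizerCondition_of_isNilpotent Pq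
    have hsub : Subsingleton (Sylow q (N ⧸ C)) :=
      have := Pq.unique_of_normal hPqn
      inferInstance
    have hgen : N ≤ ⨆ K : {K : Subgroup X // IsHyp D A K}, N ⊓ Q D G K.1 D.d :=
      le_iSup_inf_Q h hD (genAt hD D.d le_rfl X A G h hs) le_rfl (T_normalizer h.le_normalizer _)
    have hQC : ∀ K : {K : Subgroup X // IsHyp D A K}, ∀ x, x ∈ N → x ∈ Q D G K.1 D.d →
        x ^ q ^ actBound D c ∈ centralizer (V : Set X) := by
      intro K x _ hx
      have h1 : V ≤ ⨆ H : {H : Subgroup X // IsHyp D A H}, V ⊓ centralizer (H.1 : Set X) :=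
        h.le_iSup_cG hD hVG (by rw [normalizer_eq_top]; exact le_top)
      have h2 : (⨆ H : {H : Subgroup X // IsHyp D A H}, V ⊓ centralizer (H.1 : Set X)) ≤
          centralizer ({x ^ q ^ actBound D c} : Set X) := by
        refine iSup_le fun H v hv => mem_centralizer_singleton_iff.2 ?_
        refine (pow_centralizes (V := V) (Q := Q D G K.1 D.d) ?_ hVab hVq hx (actBound D c)
          (V ⊓ centralizer (H.1 : Set X)) inf_le_left ?_ v hv).symm
        · rw [normalizer_eq_top]; exact le_top
        · refine eq_bot_iff.2 ((itc_mono le_rfl ?_ _).trans (itc_Q_eq_bot h hD hr hc K.2.1 H.2).le)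
          exact le_inf (inf_le_left.trans hVG)
            (inf_le_right.trans (centralizer_le (SetLike.coe_subset_coe.2 inf_le_right)))
      exact mem_centralizer_iff.2 fun v hv => mem_centralizer_singleton_iff.1 (h2 (h1 hv))
    have hsurj : ∀ x : X, ∀ hx : x ∈ N, g ⟨x, hx⟩ ∈ (Pq : Subgroup (N ⧸ C)) := by
      intro x hx
      have h1 : N ≤ ((Pq : Subgroup (N ⧸ C)).comap g).map N.subtype := by
        refine hgen.trans (iSup_le fun K x hx => ⟨⟨x, hx.1⟩, ?_, rfl⟩)
        show g ⟨x, hx.1⟩ ∈ (Pq : Subgroup (N ⧸ C))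
        have hpow : g ⟨x, hx.1⟩ ^ q ^ actBound D c = 1 := by
          rw [← map_pow]
          exact (QuotientGroup.eq_one_iff _).2 (hQC K x hx.1 hx.2)
        have hpg : IsPGroup q (zpowers (g ⟨x, hx.1⟩)) :=
          IsPGroup.of_card_dvd_pow (n := actBound D c) (by
            rw [Nat.card_zpowers]; exact orderOf_dvd_of_pow_eq_one hpow)
        obtain ⟨S, hS⟩ := hpg.exists_le_sylow
        rw [Subsingleton.elim S Pq] at hS
        exact hS (mem_zpowers _)
      obtain ⟨y, hy, hyx⟩ := h1 hx
      rwa [show y = (⟨x, hx⟩ : N) from Subtype.ext hyx] at hy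
    set P' := (P : Subgroup N).map N.subtype with hP'
    have hNCP : N ≤ centralizer (V : Set X) ⊔ P' := by
      intro x hx
      obtain ⟨y, hy, hyx⟩ := (Sylow.coe_mapSurjective hgs P ▸ hsurj x hx : g ⟨x, hx⟩ ∈ (P : Subgroup N).map g)
      have h1 : y⁻¹ * ⟨x, hx⟩ ∈ C := (QuotientGroup.eq_one_iff _).1 (by
        show g (y⁻¹ * ⟨x, hx⟩) = 1
        rw [map_mul, map_inv, hyx, inv_mul_cancel])
      have h2 := mul_mem (mem_sup_right (S := centralizer (V : Set X)) (mem_map_of_mem N.subtype hy))
        (mem_sup_left (T := P') (show ((y⁻¹ * ⟨x, hx⟩ : N) : X) ∈ centralizer (V : Set X) from h1))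
      simpa using h2
    have hVP : V ≤ ⁅V, P'⁆ := by
      refine e'.ge.trans ((commutator_mono le_rfl hNCP).trans ?_)
      rw [sup_eq_iSup]
      refine commutator_right_iSup_le (fun b => ?_) fun b => ?_
      · cases b
        · exact le_rfl
        · refine le_trans (le_of_eq ?_) bot_le
          rw [cond_true, commutator_eq_bot_iff_le_centralizer]
          intro v hv
          exact mem_centralizer_iff.2 fun w hw => (mem_centralizer_iff.1 hw v hv).symm
      · cases b
        · exact normalizer_commutator_ge_right V P'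
        · exact (centralizer_le (SetLike.coe_subset_coe.2 (commutator_le_left V P'))).trans
            (centralizer_le_normalizer _)
    have hVP' : V ≤ P' := by
      have hpg : IsPGroup q (V.subgroupOf N) := fun v => ⟨1, Subtype.ext (Subtype.ext (by
        simpa using hVq v.1.1 v.2))⟩
      obtain ⟨S, hS⟩ := hpg.exists_le_sylow
      obtain ⟨z, rfl⟩ := MulAction.exists_smul_eq N P S
      intro v hv
      have hz : (z : X)⁻¹ * v * z ∈ V := by simpa using hVn.conj_mem v hv (z : X)⁻¹
      have h1 := hS (show (⟨(z : X) * v * (z : X)⁻¹, hVN (hVn.conj_mem v hv z)⟩ : N) ∈ V.subgroupOf N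
        from hVn.conj_mem v hv z)
      rw [Sylow.coe_subgroup_smul, mem_pointwise_smul_iff_inv_smul_mem] at h1
      have e : (MulAut.conj z)⁻¹ • (⟨(z : X) * v * (z : X)⁻¹, hVN (hVn.conj_mem v hv z)⟩ : N)
          = (⟨v, hVN hv⟩ : N) := by
        rw [MulAut.smul_def, MulAut.conj_inv_apply]
        apply Subtype.ext
        simp [mul_assoc]
      rw [e] at h1
      exact ⟨⟨v, hVN hv⟩, h1, rfl⟩
    obtain ⟨j, hj⟩ := (Subgroup.isNilpotent_iff_lowerCentralSeries P').1
      (P.isPGroup'.map N.subtype).isNilpotent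
    have hdesc : ∀ j, V ≤ P'.lowerCentralSeries j := by
      intro j
      induction j with
      | zero => exact hVP'
      | succ j ihj => exact hVP.trans (commutator_mono ihj le_rfl)
    exact hV0 (eq_bot_iff.2 ((hdesc j).trans hj.le))

end Bound

end CfsgLib.CoprimeClass
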