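import Cfsg.Agent.Lib.Comp.Signalizer
import Cfsg.Agent.Lib.Coprime.Generation

/-!
# Derived and lower central terms of fixed point subgroups: tools
-/

set_option autoImplicit false

namespace CfsgLib.CoprimeClass

open Subgroup
open scoped commutatorElement

variable {X : Type*} [Group X]

section Comm

theorem commutator_left_iSup_le {ι : Sort*} {P : ι → Subgroup X} {R W : Subgroup X}
    (h : ∀ a, ⁅P a, R⁆ ≤ W) (hn : ∀ a, P a ≤ normalizer (W : Set X)) : ⁅⨆ a, P a, R⁆ ≤ W := by
  refine commutator_le.2 fun x hx y hy => ?_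
  have : x ∈ normalizer (W : Set X) ∧ ⁅x, y⁆ ∈ W := by
    induction hx using Subgroup.iSup_induction' with
    | hp a x hx => exact ⟨hn a hx, h a (commutator_mem_commutator hx hy)⟩
    | h1 => exact ⟨one_mem _, by rw [commutatorElement_one_left]; exact one_mem _⟩
    | hmul u v _ _ hu hv =>
      refine ⟨mul_mem hu.1 hv.1, ?_⟩
      rw [show ⁅u * v, y⁆ = u * ⁅v, y⁆ * u⁻¹ * ⁅u, y⁆ by simp only [commutatorElement_def]; group]
      exact mul_mem ((mem_normalizer_iff.1 hu.1 _).1 hv.2) hu.2
  exact this.2

theorem commutator_right_iSup_le {ι : Sort*} {P W : Subgroup X} {R : ι → Subgroup X}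
    (h : ∀ a, ⁅P, R a⁆ ≤ W) (hn : ∀ a, R a ≤ normalizer (W : Set X)) : ⁅P, ⨆ a, R a⁆ ≤ W := by
  rw [commutator_comm]
  exact commutator_left_iSup_le (fun a => by rw [commutator_comm]; exact h a) hn

theorem commutator_iSup_le {ι κ : Sort*} {P : ι → Subgroup X} {R : κ → Subgroup X} {W : Subgroup X}
    (h : ∀ a b, ⁅P a, R b⁆ ≤ W) (hP : ∀ a, P a ≤ normalizer (W : Set X))
    (hR : ∀ b, R b ≤ normalizer (W : Set X)) : ⁅⨆ a, P a, ⨆ b, R b⁆ ≤ W :=
  commutator_left_iSup_le (fun a => commutator_right_iSup_le (h a) hR) hP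

/-- Conjugation moves an element of `W` by a commutator. -/
theorem le_normalizer_of_commutator_le {R W : Subgroup X} (h : ⁅R, W⁆ ≤ W) :
    R ≤ normalizer (W : Set X) := by
  rw [le_normalizer_iff_commutator_le_left, commutator_comm]
  exact h

theorem conjEquiv_map_commutator (g : X) (H K : Subgroup X) :
    (⁅H, K⁆).map (MulAut.conj g).toMonoidHom
      = ⁅H.map (MulAut.conj g).toMonoidHom, K.map (MulAut.conj g).toMonoidHom⁆ :=
  map_commutator H K _

theorem le_normalizer_commutator {M H K : Subgroup X} (hH : M ≤ normalizer (H : Set X))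
    (hK : M ≤ normalizer (K : Set X)) : M ≤ normalizer ((⁅H, K⁆ : Subgroup X) : Set X) := by
  intro m hm
  rw [CfsgLib.Coprime.mem_normalizer_iff_map_conj, map_commutator,
    CfsgLib.Coprime.mem_normalizer_iff_map_conj.1 (hH hm),
    CfsgLib.Coprime.mem_normalizer_iff_map_conj.1 (hK hm)]

theorem le_normalizer_inf' {M H K : Subgroup X} (hH : M ≤ normalizer (H : Set X))
    (hK : M ≤ normalizer (K : Set X)) : M ≤ normalizer ((H ⊓ K : Subgroup X) : Set X) := by
  intro m hm
  rw [mem_normalizer_iff]
  intro x
  exact and_congr (mem_normalizer_iff.1 (hH hm) x) (mem_normalizer_iff.1 (hK hm) x)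

theorem le_normalizer_iSup {ι : Sort*} {M : Subgroup X} {P : ι → Subgroup X}
    (h : ∀ a, M ≤ normalizer (P a : Set X)) :
    M ≤ normalizer ((⨆ a, P a : Subgroup X) : Set X) := by
  intro m hm
  rw [CfsgLib.Coprime.mem_normalizer_iff_map_conj, Subgroup.map_iSup]
  exact iSup_congr fun a => CfsgLib.Coprime.mem_normalizer_iff_map_conj.1 (h a hm)

theorem le_normalizer_centralizer {M B : Subgroup X} (h : M ≤ centralizer (B : Set X)) :
    M ≤ normalizer ((centralizer (B : Set X) : Subgroup X) : Set X) :=
  h.trans le_normalizer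

theorem le_normalizer_centralizer_of_comm {A B : Subgroup X} (hB : A ≤ centralizer (B : Set X)) :
    A ≤ normalizer ((centralizer (B : Set X) : Subgroup X) : Set X) :=
  le_normalizer_centralizer hB

theorem relIndex_sup_eq {H K : Subgroup X} (h : K ≤ normalizer (H : Set X)) :
    H.relIndex (H ⊔ K) = H.relIndex K := by
  let Y : Subgroup X := normalizer (H : Set X)
  have : (H.subgroupOf Y).Normal := normal_subgroupOf_of_le_normalizer le_rfl
  rw [← relIndex_subgroupOf (L := Y) (sup_le le_normalizer h), subgroupOf_sup le_normalizer h,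
    sup_comm, relIndex_sup_right, relIndex_subgroupOf h]

end Comm

section Series

/-- The derived series or the lower central series, by iterated commutators. -/
def T (dv : Bool) (H : Subgroup X) : ℕ → Subgroup X
  | 0 => H
  | i + 1 => ⁅T dv H i, bif dv then T dv H i else H⁆

/-- The index of the second argument in the recursion of `T`. -/
def sig (dv : Bool) (i : ℕ) : ℕ := bif dv then i else 0

theorem T_zero (dv : Bool) (H : Subgroup X) : T dv H 0 = H := rfl

theorem T_succ (dv : Bool) (H : Subgroup X) (i : ℕ) :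
    T dv H (i + 1) = ⁅T dv H i, T dv H (sig dv i)⁆ := by
  cases dv <;> rfl

theorem sig_le (dv : Bool) (i : ℕ) : sig dv i ≤ i := by
  cases dv
  · exact Nat.zero_le i
  · exact le_rfl

theorem T_map {Y : Type*} [Group Y] (dv : Bool) (f : X →* Y) (H : Subgroup X) :
    ∀ i, (T dv H i).map f = T dv (H.map f) i
  | 0 => rfl
  | i + 1 => by
    cases dv
    · show (⁅_, H⁆).map f = _
      rw [map_commutator, T_map false f H i]
      rfl
    · show (⁅T true H i, T true H i⁆).map f = _
      rw [map_commutator, T_map true f H i]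
      rfl

theorem T_normalizer {dv : Bool} {M H : Subgroup X} (h : M ≤ normalizer (H : Set X)) (i : ℕ) :
    M ≤ normalizer (T dv H i : Set X) := by
  intro m hm
  rw [CfsgLib.Coprime.mem_normalizer_iff_map_conj, T_map,
    CfsgLib.Coprime.mem_normalizer_iff_map_conj.1 (h hm)]

theorem T_succ_le (dv : Bool) (H : Subgroup X) : ∀ i, T dv H (i + 1) ≤ T dv H i
  | 0 => by cases dv <;> exact commutator_le_self H
  | i + 1 => by
    cases dv
    · exact commutator_mono (T_succ_le false H i) le_rfl
    · exact commutator_mono (T_succ_le true H i) (T_succ_le true H i)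

theorem T_le (dv : Bool) (H : Subgroup X) : ∀ i, T dv H i ≤ H
  | 0 => le_rfl
  | i + 1 => (T_succ_le dv H i).trans (T_le dv H i)

theorem T_le_sig (dv : Bool) (H : Subgroup X) (i : ℕ) : T dv H i ≤ T dv H (sig dv i) := by
  cases dv
  · exact T_le false H i
  · exact le_rfl

theorem T_mono (dv : Bool) {H K : Subgroup X} (h : H ≤ K) : ∀ i, T dv H i ≤ T dv K i
  | 0 => h
  | i + 1 => by
    cases dv
    · exact commutator_mono (T_mono false h i) h
    · exact commutator_mono (T_mono true h i) (T_mono true h i)

theorem T_normal (dv : Bool) (H : Subgroup X) [H.Normal] (i : ℕ) : (T dv H i).Normal :=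
  normalizer_eq_top_iff.1 (top_le_iff.1
    (T_normalizer (le_of_eq (normalizer_eq_top (H := H)).symm) i))

end Series

section Fixed

variable [Finite X]

/-- Fixed points in a finite join of invariant subgroups normalising each other. -/
theorem iSup_inf_centralizer_le {ι : Type*} [Finite ι] {H G : Subgroup X}
    (hH : H ≤ normalizer (G : Set X)) (hcop : (Nat.card H).Coprime (Nat.card G))
    (hs : Group.IsSolvable H) {P : ι → Subgroup X} (hPG : ∀ a, P a ≤ G)
    (hPH : ∀ a, H ≤ normalizer (P a : Set X)) (hPP : ∀ a b, P a ≤ normalizer (P b : Set X)) :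
    (⨆ a, P a) ⊓ centralizer (H : Set X) ≤ ⨆ a, P a ⊓ centralizer (H : Set X) := by
  classical
  have := Fintype.ofFinite ι
  have key : ∀ s : Finset ι,
      s.sup P ⊓ centralizer (H : Set X) ≤ ⨆ a, P a ⊓ centralizer (H : Set X) := by
    intro s
    induction s using Finset.induction_on with
    | empty => simp
    | insert b s _ ih =>
      rw [Finset.sup_insert]
      have hn : s.sup P ≤ normalizer (P b : Set X) := Finset.sup_le fun a _ => hPP a b
      have hsH : H ≤ normalizer ((s.sup P : Subgroup X) : Set X) := by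
        rw [Finset.sup_eq_iSup]
        exact le_normalizer_iSup fun a => le_normalizer_iSup fun _ => hPH a
      intro x hx
      obtain ⟨u, hu, v, hv, rfl⟩ := CfsgLib.Comp.exists_mul_of_mem_sup hn hx.1
      obtain ⟨u', hu', v', hv', he⟩ := CfsgLib.Coprime.exists_mul_centralizer hH hcop (Or.inl hs)
        (hPG b) (Finset.sup_le fun a _ => hPG a) (hPH b) hsH hu hv hx.2
      rw [← he]
      exact mul_mem (le_iSup (fun a => P a ⊓ centralizer (H : Set X)) b hu') (ih hv')
  intro x hx
  refine key Finset.univ ⟨?_, hx.2⟩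
  rw [Finset.sup_univ_eq_iSup]
  exact hx.1

end Fixed

end CfsgLib.CoprimeClass
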