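import Cfsg.Agent.Lib.CoprimeClass.Graded
import Cfsg.Agent.Lib.LieFpf.Fpf
import Mathlib.LinearAlgebra.Matrix.DotProduct

/-!
# Lie rings with an action of an elementary abelian group
-/

set_option autoImplicit false
set_option maxHeartbeats 1000000

namespace CfsgLib.CoprimeClass

open CfsgLib.LieFpf
open TensorProduct
open scoped BigOperators

universe u

variable {L : Type u} [LieRing L]

section Tens

variable (R : Type) [CommRing R]

/-- The span of the pure tensors with right factor in a subgroup. -/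
def tens (F : AddSubgroup L) : AddSubgroup (R ⊗[ℤ] L) :=
  AddSubgroup.closure {t | ∃ r : R, ∃ l ∈ F, r ⊗ₜ[ℤ] l = t}

variable {R}

theorem tmul_mem_tens {F : AddSubgroup L} (r : R) {l : L} (h : l ∈ F) :
    r ⊗ₜ[ℤ] l ∈ tens R F := AddSubgroup.subset_closure ⟨r, l, h, rfl⟩

theorem smul_mem_tens {F : AddSubgroup L} (r : R) {t : R ⊗[ℤ] L} (h : t ∈ tens R F) :
    r • t ∈ tens R F := by
  induction h using AddSubgroup.closure_induction with
  | mem x hx =>
    obtain ⟨s, l, hl, rfl⟩ := hx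
    rw [TensorProduct.smul_tmul']
    exact tmul_mem_tens _ hl
  | zero => rw [smul_zero]; exact zero_mem _
  | add _ _ _ _ hx hy => rw [smul_add]; exact add_mem hx hy
  | neg _ _ hx => rw [smul_neg]; exact neg_mem hx

theorem tens_bot : tens (L := L) R ⊥ = ⊥ := by
  refine eq_bot_iff.2 ((AddSubgroup.closure_le _).2 ?_)
  rintro t ⟨r, l, hl, rfl⟩
  rw [AddSubgroup.mem_bot.1 hl, TensorProduct.tmul_zero]
  exact zero_mem _

theorem br_tens_le (F M : AddSubgroup L) :
    br (tens R F : Set (R ⊗[ℤ] L)) (tens R M) ≤ tens R (br (F : Set L) M) := by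
  refine br_le fun a ha m hm => ?_
  rw [SetLike.mem_coe] at ha
  induction ha using AddSubgroup.closure_induction with
  | mem x hx =>
    obtain ⟨r, l, hl, rfl⟩ := hx
    induction hm using AddSubgroup.closure_induction with
    | mem y hy =>
      obtain ⟨s, l', hl', rfl⟩ := hy
      rw [LieAlgebra.ExtendScalars.bracket_tmul]
      exact tmul_mem_tens _ (lie_mem_br hl hl')
    | zero => rw [ext_lie_zero]; exact zero_mem _
    | add _ _ _ _ hx hy => rw [ext_lie_add]; exact add_mem hx hy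
    | neg _ _ hx => rw [lie_neg]; exact neg_mem hx
  | zero => rw [ext_zero_lie]; exact zero_mem _
  | add _ _ _ _ hx hy => rw [ext_add_lie]; exact add_mem hx hy
  | neg _ _ hx => rw [neg_lie]; exact neg_mem hx

theorem brN_tens_le (F M : AddSubgroup L) :
    ∀ n, brN (tens R F : Set (R ⊗[ℤ] L)) (tens R M) n ≤ tens R (brN (F : Set L) M n)
  | 0 => le_rfl
  | n + 1 => (br_mono subset_rfl (brN_tens_le F M n)).trans (br_tens_le F _)

theorem mem_tens_of_coord {ι : Type*} [DecidableEq ι] (b : Module.Basis ι ℤ R) {F : AddSubgroup L}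
    {t : R ⊗[ℤ] L} (h : ∀ i, TensorProduct.equivFinsuppOfBasisLeft (N := L) b t i ∈ F) :
    t ∈ tens R F := by
  rw [← (TensorProduct.equivFinsuppOfBasisLeft (N := L) b).symm_apply_apply t,
    TensorProduct.equivFinsuppOfBasisLeft_symm_apply]
  exact AddSubgroup.sum_mem _ fun i _ => tmul_mem_tens _ (h i)

theorem coord_mapExt {ι : Type*} [DecidableEq ι] (b : Module.Basis ι ℤ R) (φ : L →+ L)
    (t : R ⊗[ℤ] L) (i : ι) : TensorProduct.equivFinsuppOfBasisLeft (N := L) b (mapExt R φ t) i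
      = φ (TensorProduct.equivFinsuppOfBasisLeft (N := L) b t i) := by
  induction t using TensorProduct.induction_on with
  | zero => simp
  | add x y hx hy => simp only [map_add, Finsupp.add_apply, hx, hy]
  | tmul a l =>
    rw [mapExt_tmul, TensorProduct.equivFinsuppOfBasisLeft_apply_tmul_apply,
      TensorProduct.equivFinsuppOfBasisLeft_apply_tmul_apply, map_zsmul]

end Tens

variable {p : ℕ} [hp : Fact p.Prime] {k : ℕ}

theorem exists_mul_rootPow_one_sub : ∃ u : CycRing p, u * (rootPow p 1 - 1) = (p : CycRing p) := by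
  have hdvd : ∀ i : ZMod p, rootPow p 1 - 1 ∣ rootPow p i - 1 := by
    intro i
    have h1 : rootPow p 1 = AdjoinRoot.root _ := by
      rw [rootPow, ZMod.val_one'' hp.out.ne_one, pow_one]
    rw [h1, rootPow]
    exact sub_one_dvd_pow_sub_one _ _
  have h0 : ∑ a : ZMod p, rootPow p a = 0 := by
    have := sum_rootPow_mul p (one_ne_zero : (1 : ZMod p) ≠ 0)
    simpa using this
  have h2 : ∑ a : ZMod p, (rootPow p a - 1) = -(p : CycRing p) := by
    rw [Finset.sum_sub_distrib, h0, zero_sub, Finset.sum_const, Finset.card_univ, ZMod.card,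
      nsmul_one]
  obtain ⟨u, hu⟩ := Finset.dvd_sum (s := (Finset.univ : Finset (ZMod p))) fun i _ => hdvd i
  exact ⟨-u, by rw [neg_mul, mul_comm, ← hu, h2, neg_neg]⟩

/-- The eigen components of an action of an elementary abelian group. -/
noncomputable def charPart {R : Type} [CommRing R] (ζ : ZMod p → R)
    (φ : (Fin k → ZMod p) → (L →+ L)) (ψ : Fin k → ZMod p) :
    AddSubgroup (R ⊗[ℤ] L) where
  carrier := {t | ∀ a, mapExt R (φ a) t = ζ (dotProduct ψ a) • t}
  zero_mem' := fun a => by rw [map_zero, smul_zero]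
  add_mem' {s t} hs ht := fun a => by rw [map_add, hs a, ht a, smul_add]
  neg_mem' {s} hs := fun a => by rw [map_neg, hs a, smul_neg]

/-- The elements fixed by the kernel of a character. -/
def kerFix (φ : (Fin k → ZMod p) → (L →+ L)) (ψ : Fin k → ZMod p) : AddSubgroup L where
  carrier := {l | ∀ a, dotProduct ψ a = 0 → φ a l = l}
  zero_mem' := fun a _ => map_zero _
  add_mem' {x y} hx hy := fun a ha => by rw [map_add, hx a ha, hy a ha]
  neg_mem' {x} hx := fun a ha => by rw [map_neg, hx a ha]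

/-- Products of more than `gradedBound` elements are killed by a power of `p`. -/
theorem nsmul_prodSpan_eq_zero_of_root {R : Type} [CommRing R] {ι : Type*}
    (b : Module.Basis ι ℤ R) {k₀ : ι} (hb1 : b k₀ = 1) (ζ : ZMod p → R) (hζ0 : ζ 0 = 1)
    (hζ : ∀ i j, ζ (i + j) = ζ i * ζ j)
    (hζsum : ∀ c : ZMod p, c ≠ 0 → ∑ a : ZMod p, ζ (a * c) = 0)
    (hu : ∃ u : R, u * (ζ 1 - 1) = (p : R)) (φ : (Fin k → ZMod p) → (L →+ L))
    (hlie : ∀ a x y, φ a ⁅x, y⁆ = ⁅φ a x, φ a y⁆) (hadd : ∀ a b l, φ (a + b) l = φ a (φ b l))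
    (hzero : ∀ l, φ 0 l = l) (F : (Fin k → ZMod p) → AddSubgroup L)
    (hF0 : kerFix φ 0 ≤ F 0)
    (hF : ∀ ψ, ψ ≠ 0 → ∀ b, ∀ l ∈ kerFix φ ψ, φ b l - l ∈ F ψ) {E : ℕ}
    (hN : ∀ ψ χ, brN (F ψ : Set L) (kerFix φ χ) E = ⊥) {l : L}
    (hl : l ∈ prodSpan L (gradedBound p k E k)) :
    p ^ ((k + 1) * (gradedBound p k E k + 1)) • l = 0 := by
  classical
  let V := charPart ζ φ
  let W : (Fin k → ZMod p) → AddSubgroup (R ⊗[ℤ] L) := fun ψ => (V ψ).map (nsmulAddMonoidHom p)
  have hV : ∀ {ψ χ : Fin k → ZMod p} {s t : (R ⊗[ℤ] L)}, s ∈ V ψ → t ∈ V χ → ⁅s, t⁆ ∈ V (ψ + χ) := by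
    intro ψ χ s t hs ht a
    rw [mapExt_lie _ _ (hlie a), hs a, ht a, ext_smul_lie, ext_lie_smul, smul_smul, add_dotProduct,
      hζ]
  have hW : LieGraded W := by
    intro ψ χ s t hs ht
    obtain ⟨s, hs, rfl⟩ := hs
    obtain ⟨t, ht, rfl⟩ := ht
    refine ⟨p • ⁅s, t⁆, nsmul_mem (hV hs ht) p, ?_⟩
    show p • p • ⁅s, t⁆ = ⁅p • s, p • t⁆
    rw [ext_nsmul_lie, ext_lie_nsmul]
  have hVfix : ∀ ψ, ∀ t ∈ V ψ, t ∈ tens (R) (kerFix φ ψ) := by
    intro ψ t ht
    refine mem_tens_of_coord b fun i => ?_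
    intro a ha
    rw [← coord_mapExt, ht a, ha, hζ0, one_smul]
  have hWF : ∀ ψ, W ψ ≤ tens (R) (F ψ) := by
    rintro ψ _ ⟨t, ht, rfl⟩
    show p • t ∈ _
    by_cases hψ : ψ = 0
    · subst hψ
      refine nsmul_mem ?_ p
      refine (AddSubgroup.closure_le _).2 ?_ (hVfix 0 t ht)
      rintro _ ⟨r, l, hl, rfl⟩
      exact tmul_mem_tens r (hF0 hl)
    · obtain ⟨j, hj⟩ := Function.ne_iff.1 hψ
      let a : Fin k → ZMod p := Pi.single j (ψ j)⁻¹
      have ha : dotProduct ψ a = 1 := by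
        rw [dotProduct_single]
        exact mul_inv_cancel₀ hj
      have h1 : (ζ 1 - 1) • t ∈ tens (R) (F ψ) := by
        rw [sub_smul, one_smul, ← ha, ← ht a]
        refine mem_tens_of_coord b fun i => ?_
        rw [map_sub, Finsupp.sub_apply, coord_mapExt]
        refine hF ψ hψ a _ fun c hc => ?_
        rw [← coord_mapExt, ht c, hc, hζ0, one_smul]
      obtain ⟨u, hu⟩ := hu
      have h2 := smul_mem_tens u h1
      rwa [smul_smul, hu, Nat.cast_smul_eq_nsmul] at h2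
  have hWfix : ∀ ψ, W ψ ≤ tens (R) (kerFix φ ψ) := by
    rintro ψ _ ⟨t, ht, rfl⟩
    exact nsmul_mem (hVfix ψ t ht) p
  have hWE : ∀ ψ χ, brN (W ψ : Set (R ⊗[ℤ] L)) (W χ) E = ⊥ := by
    intro ψ χ
    refine eq_bot_iff.2 ((brN_mono (hWF ψ) (hWfix χ) E).trans ?_)
    refine (brN_tens_le _ _ E).trans ?_
    rw [hN ψ χ, tens_bot]
  have hWeq : ∀ ψ, W ψ = (V ψ).map (nsmulAddMonoidHom p) := fun _ => rfl
  clear_value W
  have hbot := brN_iUnion_eq_bot hW hWE
  set M := ⨆ ψ, W ψ with hM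
  -- the decomposition
  let part : (Fin k → ZMod p) → L → (R ⊗[ℤ] L) := fun ψ l =>
    ∑ a : Fin k → ZMod p, ζ (-dotProduct ψ a) ⊗ₜ[ℤ] φ a l
  have hpart : ∀ ψ l, part ψ l ∈ V ψ := by
    intro ψ l c
    show mapExt _ _ (∑ a : Fin k → ZMod p, _) = _
    rw [map_sum, Finset.smul_sum]
    refine Eq.trans (Finset.sum_congr rfl fun a _ => ?_)
      (Equiv.sum_comp (Equiv.addLeft c)
        (fun a => ζ (dotProduct ψ c) • (ζ (-dotProduct ψ a) ⊗ₜ[ℤ] φ a l)))
    rw [mapExt_tmul, Equiv.coe_addLeft, TensorProduct.smul_tmul', smul_eq_mul, ← hζ, hadd,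
      dotProduct_add]
    congr 1
    congr 1
    ring
  have hsum : ∀ l, ∑ ψ, part ψ l = p ^ k • ((1 : R) ⊗ₜ[ℤ] l) := by
    intro l
    simp only [part]
    rw [Finset.sum_comm, Finset.sum_eq_single (0 : Fin k → ZMod p)]
    · rw [Finset.sum_congr rfl fun ψ _ => show _ = (1 : R) ⊗ₜ[ℤ] l by
        rw [dotProduct_zero, neg_zero, hζ0, hzero], Finset.sum_const, Finset.card_univ,
        Fintype.card_fun, ZMod.card, Fintype.card_fin]
    · intro a _ ha
      rw [← TensorProduct.sum_tmul]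
      obtain ⟨j, hj⟩ := Function.ne_iff.1 ha
      have hprod : ∀ ψ : Fin k → ZMod p,
          ζ (-dotProduct ψ a) = ∏ i, ζ (ψ i * (-a i)) := by
        intro ψ
        rw [show -dotProduct ψ a = ∑ i, ψ i * (-a i) by simp [dotProduct, Finset.sum_neg_distrib]]
        induction (Finset.univ : Finset (Fin k)) using Finset.induction_on with
        | empty => simp [hζ0]
        | insert i s hi ih => rw [Finset.sum_insert hi, Finset.prod_insert hi, hζ, ih]
      rw [Finset.sum_congr rfl fun ψ _ => hprod ψ,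
        ← Fintype.prod_sum (fun i c => ζ (c * (-a i))),
        Finset.prod_eq_zero (Finset.mem_univ j) (hζsum _ (neg_ne_zero.2 hj)),
        TensorProduct.zero_tmul]
    · exact fun h => absurd (Finset.mem_univ _) h
  have hmemM : ∀ l, p ^ (k + 1) • ((1 : R) ⊗ₜ[ℤ] l) ∈ M := by
    intro l
    rw [pow_succ', mul_smul, ← hsum, Finset.smul_sum]
    exact AddSubgroup.sum_mem _ fun ψ _ =>
      AddSubgroup.mem_iSup_of_mem ψ (hWeq ψ ▸ ⟨part ψ l, hpart ψ l, rfl⟩)
  have hMX : (M : Set (R ⊗[ℤ] L)) ⊆ (AddSubgroup.closure (⋃ ψ, (W ψ : Set (R ⊗[ℤ] L))) : AddSubgroup (R ⊗[ℤ] L)) := by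
    rw [hM, AddSubgroup.iSup_eq_closure]
  have hdec : ∀ i, ∀ l ∈ prodSpan L i, p ^ ((k + 1) * (i + 1)) • ((1 : R) ⊗ₜ[ℤ] l) ∈
      brN (⋃ ψ, (W ψ : Set (R ⊗[ℤ] L))) M i := by
    intro i
    induction i with
    | zero => intro l _; rw [zero_add, mul_one]; exact hmemM l
    | succ i ih =>
      intro l hl
      induction hl using AddSubgroup.closure_induction with
      | mem x hx =>
        obtain ⟨a, w, hw, rfl⟩ := hx
        have e : ⁅p ^ (k + 1) • ((1 : R) ⊗ₜ[ℤ] a),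
            p ^ ((k + 1) * (i + 1)) • ((1 : R) ⊗ₜ[ℤ] w)⁆
            = p ^ ((k + 1) * (i + 1 + 1)) • ((1 : R) ⊗ₜ[ℤ] ⁅a, w⁆) := by
          rw [ext_nsmul_lie, ext_lie_nsmul, smul_smul, ← pow_add,
            LieAlgebra.ExtendScalars.bracket_tmul, mul_one]
          congr 2
          ring
        rw [← e]
        exact br_closure_le _ _ (lie_mem_br (hMX (hmemM a)) (ih w hw))
      | zero => rw [TensorProduct.tmul_zero, smul_zero]; exact zero_mem _
      | add x y _ _ hx hy => rw [TensorProduct.tmul_add, smul_add]; exact add_mem hx hy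
      | neg x _ hx => rw [TensorProduct.tmul_neg, smul_neg]; exact neg_mem hx
  have h3 := hdec _ l hl
  rw [hbot, AddSubgroup.mem_bot, ← TensorProduct.tmul_smul] at h3
  have h4 := congrArg (fun s => TensorProduct.equivFinsuppOfBasisLeft (N := L) b s k₀) h3
  simp only [TensorProduct.equivFinsuppOfBasisLeft_apply_tmul_apply, map_zero, Finsupp.zero_apply] at h4
  rwa [← hb1, Module.Basis.repr_self, Finsupp.single_eq_same, one_smul] at h4

/-- Products of more than `gradedBound` elements are killed by a power of `p`. -/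
theorem nsmul_prodSpan_eq_zero' (φ : (Fin k → ZMod p) → (L →+ L))
    (hlie : ∀ a x y, φ a ⁅x, y⁆ = ⁅φ a x, φ a y⁆) (hadd : ∀ a b l, φ (a + b) l = φ a (φ b l))
    (hzero : ∀ l, φ 0 l = l) (F : (Fin k → ZMod p) → AddSubgroup L)
    (hF0 : kerFix φ 0 ≤ F 0)
    (hF : ∀ ψ, ψ ≠ 0 → ∀ b, ∀ l ∈ kerFix φ ψ, φ b l - l ∈ F ψ) {E : ℕ}
    (hN : ∀ ψ χ, brN (F ψ : Set L) (kerFix φ χ) E = ⊥) {l : L}
    (hl : l ∈ prodSpan L (gradedBound p k E k)) :
    p ^ ((k + 1) * (gradedBound p k E k + 1)) • l = 0 := by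
  classical
  let pb := AdjoinRoot.powerBasis' (Polynomial.cyclotomic.monic p ℤ)
  have hdim : 0 < pb.dim := by
    rw [AdjoinRoot.powerBasis'_dim, Polynomial.natDegree_cyclotomic, Nat.totient_pos]
    exact hp.out.pos
  exact nsmul_prodSpan_eq_zero_of_root pb.basis (k₀ := ⟨0, hdim⟩)
    (by rw [PowerBasis.basis_eq_pow, pow_zero]) (rootPow p) (rootPow_zero p) (rootPow_add p)
    (fun c hc => sum_rootPow_mul p hc) exists_mul_rootPow_one_sub φ hlie hadd hzero F hF0 hF hN hl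

end CfsgLib.CoprimeClass
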