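import Cfsg.Agent.Lib.CoprimeClass.Act
import Cfsg.Agent.Lib.CoprimeClass.Extend
import Cfsg.Agent.Lib.Comp.SFT.Main
import Mathlib.FieldTheory.Finiteness
import Mathlib.Algebra.Module.ZMod

/-!
# The bound on the class
-/

set_option autoImplicit false

namespace CfsgLib.CoprimeClass

open Subgroup CfsgLib.LieFpf
open scoped commutatorElement DirectSum

universe u

variable {X : Type u} [Group X]

theorem exists_addEquiv_of_module {V : Type u} [AddCommGroup V] [Finite V] {k : ℕ} (p : ℕ)
    [Fact p.Prime] [Module (ZMod p) V] (hcard : Nat.card V = p ^ k) :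
    Nonempty ((Fin k → ZMod p) ≃+ V) := by
  haveI : Module.Finite (ZMod p) V := Module.Finite.of_finite
  have hfr : Module.finrank (ZMod p) V = k := by
    have h1 : Nat.card V = Nat.card (ZMod p) ^ Module.finrank (ZMod p) V :=
      Module.natCard_eq_pow_finrank
    rw [Nat.card_zmod, hcard] at h1
    exact (Nat.pow_right_injective (Fact.out : p.Prime).two_le h1).symm
  exact ⟨(Module.finBasisOfFinrankEq (ZMod p) V hfr).equivFun.symm.toAddEquiv⟩

theorem exists_addEquiv_of_exponent {V : Type u} [AddCommGroup V] [Finite V] {k : ℕ} (p : ℕ)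
    [Fact p.Prime] (hexp : ∀ x : V, p • x = 0) (hcard : Nat.card V = p ^ k) :
    Nonempty ((Fin k → ZMod p) ≃+ V) :=
  @exists_addEquiv_of_module V _ _ k p _ (AddCommGroup.zmodModule hexp) hcard

section Lie

variable {N : Subgroup X}

/-- The span of the homogeneous elements represented in a subgroup. -/
def repr (N P : Subgroup X) : AddSubgroup (LieLcs ↥N) :=
  AddSubgroup.closure {l | ∃ (j : ℕ) (g : N) (h : g ∈ gam ↥N j), (g : X) ∈ P ∧ iota j g h = l}

theorem repr_mono {P P' : Subgroup X} (h : P ≤ P') : repr N P ≤ repr N P' :=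
  AddSubgroup.closure_mono fun _ ⟨j, g, hg, hP, e⟩ => ⟨j, g, hg, h hP, e⟩

theorem repr_bot : repr N ⊥ = ⊥ := by
  refine eq_bot_iff.2 ((AddSubgroup.closure_le _).2 ?_)
  rintro l ⟨j, g, hg, hP, rfl⟩
  have e : g = 1 := Subtype.ext (mem_bot.1 hP)
  rw [SetLike.mem_coe, AddSubgroup.mem_bot, ← iota_one j]
  exact iota_congr rfl e

theorem brN_repr_le (U W : Subgroup X) :
    ∀ n, brN (repr N U : Set (LieLcs ↥N)) (repr N W) n ≤ repr N (itc U W n)
  | 0 => le_rfl
  | n + 1 => by
    refine (br_closure_le _ _).trans (br_le fun a ha m hm => ?_)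
    obtain ⟨i, g, hg, hgU, rfl⟩ := ha
    have hm' := brN_repr_le U W n hm
    clear hm
    induction hm' using AddSubgroup.closure_induction with
    | mem x hx =>
      obtain ⟨j, g', hg', hgW, rfl⟩ := hx
      rw [lie_iota]
      refine AddSubgroup.subset_closure ⟨_, _, _, ?_, rfl⟩
      show ⁅(g : X), (g' : X)⁆ ∈ ⁅itc U W n, U⁆
      rw [commutator_comm]
      exact commutator_mem_commutator hgU hgW
    | zero => rw [lie_zero]; exact zero_mem _
    | add _ _ _ _ hx hy => rw [lie_add]; exact add_mem hx hy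
    | neg _ _ hx => rw [lie_neg]; exact neg_mem hx

theorem autLie_mul {H : Type u} [Group H] (α β : MulAut H) (l : LieLcs H) :
    autLie (α * β) l = autLie α (autLie β l) := by
  induction l using induction_iota with
  | zero => simp
  | add a b ha hb => simp only [map_add, ha, hb]
  | iota i g h =>
    rw [autLie_iota, autLie_iota, autLie_iota]
    exact iota_congr rfl rfl

theorem autLie_one {H : Type u} [Group H] (l : LieLcs H) : autLie (1 : MulAut H) l = l := by
  induction l using induction_iota with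
  | zero => simp
  | add a b ha hb => simp only [map_add, ha, hb]
  | iota i g h =>
    rw [autLie_iota]
    exact iota_congr rfl rfl

theorem map_gam (j : ℕ) : (gam ↥N j).map N.subtype = N.lowerCentralSeries j :=
  top_subtype_lowerCentralSeries N j

/-- Fixed elements of the Lie ring are represented by fixed elements. -/
theorem mem_repr_of_fixed [Finite X] [N.Normal] {K : Subgroup X}
    (hcop : (Nat.card K).Coprime (Nat.card N)) (hs : Group.IsSolvable K) {l : LieLcs ↥N}
    (hl : ∀ a ∈ K, autLie (MulAut.conjNormal a) l = l) :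
    l ∈ repr N (centralizer (K : Set X)) := by
  classical
  rw [← DirectSum.sum_support_of l]
  refine AddSubgroup.sum_mem _ fun i _ => ?_
  obtain ⟨g, hg⟩ := layerMk_surjective i (l i).toMul
  have hli : l i = Additive.ofMul (layerMk i g) := by rw [hg]; rfl
  let G₁ : Subgroup X := (gam ↥N (i + 1)).map N.subtype
  have hn : ∀ a ∈ K, g.1.1⁻¹ * a * g.1.1 * a⁻¹ ∈ G₁ := by
    intro a ha
    have h1 : Additive.ofMul (layerMk i (⟨MulAut.conjNormal a g.1, map_mem_gam _ g.2⟩ : gam ↥N i))
        = l i := by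
      conv_rhs => rw [← hl a ha, autLie, DirectSum.map_apply, hli]
      rfl
    rw [hli] at h1
    refine ⟨(g.1 : N)⁻¹ * MulAut.conjNormal a g.1, layerMk_eq.1 (Additive.ofMul.injective h1).symm, ?_⟩
    simp [mul_assoc]
  have hKN : K ≤ normalizer (N : Set X) := by rw [normalizer_eq_top]; exact le_top
  have hKG : K ≤ normalizer (G₁ : Set X) := by
    intro a _
    rw [CfsgLib.Coprime.mem_normalizer_iff_map_conj]
    show ((gam ↥N (i + 1)).map N.subtype).map _ = _
    rw [map_gam, map_lowerCentralSeries, CfsgLib.Coprime.map_conj_of_mem_normalizer (hKN ‹_›)]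
    exact (map_gam _).symm
  obtain ⟨_, ⟨n, hn1, rfl⟩, hc⟩ := CfsgLib.Coprime.exists_mem_centralizer_of_coset hKN hKG
    (map_subtype_le _) hcop (Or.inl hs) g.1.2 hn
  have e : DirectSum.of (fun i => Additive (Layer ↥N i)) i (l i)
      = iota i (g.1 * n) (mul_mem g.2 (gam_mono (Nat.le_succ i) hn1)) := by
    rw [hli]
    exact iota_eq_of_mem (h := g.2) (by rwa [inv_mul_cancel_left])
  rw [e]
  exact AddSubgroup.subset_closure ⟨i, g.1 * n, _, hc, rfl⟩

end Lie

variable [Finite X] {D : Data} {A G : Subgroup X}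

/-- The bound on the class. -/
def classBound (D : Data) (c : ℕ) : ℕ := gradedBound D.p D.k (actBound D c) D.k

/-- The term of the series has bounded class. -/
theorem lowerCentralSeries_T_eq_bot (h : Setup D A G) (hD : D.Valid) (hr : 2 ≤ D.r D.d)
    (hs : Group.IsSolvable G) {c : ℕ} (hc : FixClass D c A G) :
    (T D.dv G D.d).lowerCentralSeries (classBound D c) = ⊥ := by
  classical
  have := h.normal
  have := Fact.mk hD.prime
  obtain ⟨n₀, hn₀⟩ := isNilpotent_T hD hr X A G h hs hc
  have hgen := genAt hD D.d le_rfl X A G h hs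
  set N := T D.dv G D.d with hNdef
  have : N.Normal := T_normal _ G _
  have hNG : N ≤ G := T_le _ G _
  -- coordinates of `A`
  letI : CommGroup A :=
    { (inferInstance : Group A) with mul_comm := fun a b => h.elem.1.is_comm.comm a b }
  obtain ⟨e⟩ := exists_addEquiv_of_exponent (V := Additive A) (k := D.k) D.p (fun x => by
      show Additive.ofMul (x.toMul ^ D.p) = 0
      rw [show x.toMul ^ D.p = 1 from Subtype.ext (by simpa using h.elem.2 _ x.toMul.2)]
      rfl) ((Nat.card_congr Additive.toMul).trans h.card)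
  let el : (Fin D.k → ZMod D.p) → X := fun a => ((e a).toMul : A)
  have hel0 : el 0 = 1 := by simp [el]
  have heladd : ∀ a b, el (a + b) = el a * el b := fun a b => by simp [el]
  have helA : ∀ a, el a ∈ A := fun a => ((e a).toMul : A).2
  let φ : (Fin D.k → ZMod D.p) → (LieLcs ↥N →+ LieLcs ↥N) := fun a => autLie (MulAut.conjNormal (el a))
  let K : (Fin D.k → ZMod D.p) → Subgroup X := fun ψ =>
    { carrier := {x | ∃ a, dotProduct ψ a = 0 ∧ el a = x}
      one_mem' := ⟨0, dotProduct_zero ψ, hel0⟩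
      mul_mem' := fun {x y} ⟨a, ha, hx⟩ ⟨b, hb, hy⟩ => ⟨a + b, by rw [dotProduct_add, ha, hb, add_zero],
        by rw [heladd, hx, hy]⟩
      inv_mem' := fun {x} ⟨a, ha, hx⟩ => ⟨-a, by rw [dotProduct_neg, ha, neg_zero], by
        rw [← hx]; simp [el]⟩ }
  have hKA : ∀ ψ, K ψ ≤ A := fun ψ x hx => by
    obtain ⟨a, _, rfl⟩ := hx
    exact helA a
  have hK0 : K 0 = A := le_antisymm (hKA 0) fun x hx =>
    ⟨e.symm (Additive.ofMul ⟨x, hx⟩), zero_dotProduct _, by simp [el]⟩
  have hKhyp : ∀ ψ, IsHyp D A (K ψ) := by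
    intro ψ
    refine ⟨hKA ψ, ?_⟩
    let f : (Fin D.k → ZMod D.p) →+ ZMod D.p := AddMonoidHom.mk' (dotProduct ψ) (dotProduct_add ψ)
    have h1 : Nat.card (K ψ) = Nat.card f.ker := by
      refine (Nat.card_congr (Equiv.ofBijective
        (fun a : f.ker => (⟨el a.1, a.1, a.2, rfl⟩ : K ψ)) ⟨?_, ?_⟩)).symm
      · intro a b hab
        have hab' : el a.1 = el b.1 := congrArg (fun z : ↥(K ψ) => (z : X)) hab
        have : ((e a.1).toMul : A) = (e b.1).toMul := Subtype.ext hab'
        exact Subtype.ext (e.injective (Additive.toMul.injective this))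
      · rintro ⟨x, a, ha, hx⟩
        exact ⟨⟨a, ha⟩, Subtype.ext hx⟩
    have h2 := f.ker.card_mul_index
    rw [AddSubgroup.index_ker, Nat.card_fun, Nat.card_zmod, Nat.card_fin] at h2
    have h3 : Nat.card f.range ≤ D.p :=
      (Nat.card_le_card_of_injective _ Subtype.val_injective).trans (Nat.card_zmod _).le
    rw [h1]
    refine Nat.le_of_mul_le_mul_right ?_ hD.prime.pos
    rw [← pow_succ, Nat.sub_add_cancel hD.hk, ← h2]
    exact Nat.mul_le_mul_left _ h3
  have hfix : ∀ ψ, kerFix φ ψ ≤ repr N (centralizer (K ψ : Set X)) := by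
    intro ψ l hl
    refine mem_repr_of_fixed (h.coprime hD (hKA ψ) hNG) (h.solvable hD (hKA ψ)) ?_
    rintro _ ⟨a, ha, rfl⟩
    exact hl a ha
  have hF0 : kerFix φ 0 ≤ repr N (Q D G (K 0) D.d) := by
    refine (hfix 0).trans ((AddSubgroup.closure_le _).2 ?_)
    rintro _ ⟨j, g, hg, hgK, rfl⟩
    refine AddSubgroup.subset_closure ⟨j, g, hg, ?_, rfl⟩
    rw [hK0] at hgK ⊢
    have h1 := hgen A (h.isHyp_self hD) ⟨g.2, hgK⟩
    rwa [Qp, sup_idem] at h1
  have hF : ∀ ψ, ψ ≠ 0 → ∀ b, ∀ l ∈ kerFix φ ψ, φ b l - l ∈ repr N (Q D G (K ψ) D.d) := by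
    intro ψ _ b l hl
    have hl' := hfix ψ hl
    clear hl
    induction hl' using AddSubgroup.closure_induction with
    | mem x hx =>
      obtain ⟨j, g, hg, hgK, rfl⟩ := hx
      show autLie _ _ - _ ∈ _
      rw [autLie_iota, sub_eq_neg_add, ← iota_inv hg, ← iota_mul (inv_mem hg) (map_mem_gam _ hg)]
      refine AddSubgroup.subset_closure ⟨j, _, _, ?_, rfl⟩
      show (g : X)⁻¹ * (el b * g * (el b)⁻¹) ∈ Q D G (K ψ) D.d
      have hQA : Q D G A D.d ≤ cG G (K ψ) := (Q_le_cG D G A _).trans (cG_anti G (hKA ψ))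
      obtain ⟨u, hu, w, hw, huw⟩ := CfsgLib.Comp.exists_mul_of_mem_sup
        (hQA.trans (cG_le_normalizer_Q D G (K ψ) _)) (hgen (K ψ) (hKhyp ψ) ⟨g.2, hgK⟩)
      rw [← huw]
      have hwb : el b * w = w * el b := mem_centralizer_iff.1 (Q_le D G A _ hw).2 _ (helA b)
      rw [show (u * w)⁻¹ * (el b * (u * w) * (el b)⁻¹)
          = w⁻¹ * (u⁻¹ * (el b * u * (el b)⁻¹)) * (el b * w * (el b)⁻¹) by group, hwb,
        mul_inv_cancel_right]
      have h2 := (mem_normalizer_iff.1
        (inv_mem (cG_le_normalizer_Q D G (K ψ) D.d (hQA hw))) _).1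
        (mul_mem (inv_mem hu) ((mem_normalizer_iff.1 (h.normalizes_Q (hKA ψ) D.d (helA b)) u).1 hu))
      rwa [inv_inv] at h2
    | zero => rw [map_zero, sub_zero]; exact zero_mem _
    | add x y _ _ hx hy => rw [map_add, add_sub_add_comm]; exact add_mem hx hy
    | neg x _ hx => rw [map_neg, ← neg_sub']; exact neg_mem hx
  have hN' : ∀ ψ χ, brN (repr N (Q D G (K ψ) D.d) : Set (LieLcs ↥N)) (kerFix φ χ) (actBound D c) = ⊥ := by
    intro ψ χ
    have h1 : kerFix φ χ ≤ repr N (cG G (K ψ ⊓ K χ)) := by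
      refine (hfix χ).trans ((AddSubgroup.closure_le _).2 ?_)
      rintro _ ⟨j, g, hg, hgK, rfl⟩
      exact AddSubgroup.subset_closure ⟨j, g, hg,
        ⟨hNG g.2, centralizer_le (SetLike.coe_subset_coe.2 inf_le_right) hgK⟩, rfl⟩
    refine eq_bot_iff.2 (((brN_mono subset_rfl h1 _).trans (brN_repr_le _ _ _)).trans ?_)
    rw [itc_Q_eq_bot h hD hr hc (hKA ψ) (hKhyp χ), repr_bot]
  -- the conclusion
  set C := classBound D c with hC
  have hle : gam ↥N C ≤ gam ↥N (C + 1) := by
    intro g hg
    have h4 := nsmul_prodSpan_eq_zero' φ (fun a => autLie_lie _)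
      (fun a b l => by show autLie _ l = _; rw [heladd, map_mul, autLie_mul])
      (fun l => by show autLie _ l = l; rw [hel0, map_one, autLie_one])
      (fun ψ => repr N (Q D G (K ψ) D.d)) hF0 hF hN' (iota_mem_prodSpan C g hg)
    have h5 : ∀ m : ℕ, m • iota C g hg = iota C (g ^ m) (pow_mem hg m) := by
      intro m
      induction m with
      | zero => rw [zero_smul, ← iota_one C]; exact iota_congr rfl (pow_zero g).symm
      | succ m ihm => rw [succ_nsmul, ihm, ← iota_mul]; exact iota_congr rfl (pow_succ g m).symm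
    rw [h5, iota, ← map_zero (DirectSum.of (fun i => Additive (Layer ↥N i)) C)] at h4
    set m := D.p ^ ((D.k + 1) * (gradedBound D.p D.k (actBound D c) D.k + 1)) with hm
    have h6 : layerMk C (⟨g ^ m, pow_mem hg _⟩ : gam ↥N C) = 1 :=
      Additive.ofMul.injective (DirectSum.of_injective (β := fun i => Additive (Layer ↥N i)) C h4)
    have h7 := layerMk_eq_one.1 h6
    have hcop : (orderOf g).Coprime m :=
      (((hD.prime.coprime_iff_not_dvd).2 h.cop).symm.coprime_dvd_left
        ((orderOf_dvd_natCard g).trans (card_dvd_of_le hNG))).pow_right _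
    obtain ⟨t, ht⟩ := exists_pow_eq_self_of_coprime hcop.symm
    rw [← ht]
    exact pow_mem h7 t
  have hstep : ∀ j, gam ↥N C ≤ gam ↥N (C + j) := by
    intro j
    induction j with
    | zero => exact le_rfl
    | succ j ihj =>
      have hmono : ∀ j, gam ↥N (C + j) ≤ gam ↥N (C + j + 1) := by
        intro j
        induction j with
        | zero => exact hle
        | succ j ihj => exact Subgroup.commutator_mono ihj le_rfl
      exact ihj.trans (hmono j)
  rw [← map_gam C]
  refine eq_bot_iff.2 ((map_mono ((hstep n₀).trans (gam_mono (Nat.le_add_left n₀ C)))).trans ?_)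
  rw [map_gam, hn₀]

theorem derived_le_T (dv : Bool) (H : Subgroup X) : ∀ i, T true H i ≤ T dv H i
  | 0 => le_rfl
  | i + 1 => by
    cases dv
    · exact commutator_mono (derived_le_T false H i) (T_le true H i)
    · exact le_rfl

omit [Finite X] in
theorem map_derivedSeries_T (H : Subgroup X) :
    ∀ i, (derivedSeries H i).map H.subtype = T true H i
  | 0 => by rw [derivedSeries_zero, ← MonoidHom.range_eq_map, range_subtype]; rfl
  | i + 1 => by
    rw [derivedSeries_succ, map_commutator, map_derivedSeries_T H i]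
    rfl

/-- The fixed point hypothesis forces solvability. -/
theorem isSolvable_of_fixClass (h : Setup D A G) (hD : D.Valid) (hk : 3 ≤ D.k) {c : ℕ}
    (hc : FixClass D c A G) : Group.IsSolvable G := by
  have := Fact.mk hD.prime
  have hA3 : D.p ^ 3 ≤ Nat.card A := by rw [h.card]; exact Nat.pow_le_pow_right hD.prime.pos hk
  let θ : X → Subgroup X := fun a => G ⊓ centralizer ({a} : Set X)
  have hθeq : ∀ a, θ a = cG G (zpowers a) := fun a => by
    rw [cG, CfsgLib.Comp.centralizer_zpowers]
  have hθ : Cfsg.IsSolvableSignalizerFunctor D.p A θ := by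
    refine ⟨⟨fun a _ _ => inf_le_right, fun a _ _ hd => h.cop (hd.trans (card_dvd_of_le inf_le_left)),
      fun a ha _ b hb x hx => ?_, fun a _ _ b _ _ => inf_le_inf_right _ inf_le_left⟩, fun a ha ha1 => ?_⟩
    · rw [hθeq] at hx ⊢
      exact (mem_normalizer_iff.1 (h.normalizes_cG (zpowers_le.2 ha) hb) x).1 hx
    · rw [hθeq]
      set C := cG G (zpowers a)
      have key : ∀ j, T true C (D.d + j) ≤ (T D.dv C D.d).lowerCentralSeries j := by
        intro j
        induction j with
        | zero => exact derived_le_T _ C _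
        | succ j ih =>
          refine commutator_mono ih (le_trans ?_ (derived_le_T D.dv C D.d))
          clear ih
          induction j with
          | zero => exact le_rfl
          | succ j ihj => exact (T_succ_le true C (D.d + j)).trans ihj
      refine ⟨⟨D.d + c, map_injective C.subtype_injective ?_⟩⟩
      rw [map_derivedSeries_T, Subgroup.map_bot]
      exact eq_bot_iff.2 ((key c).trans (hc a ha ha1).le)
  have h1 := (CfsgLib.Comp.SFT.sft h.elem hA3 hθ).1
  have hnc : ¬ IsCyclic A := CfsgLib.Comp.not_isCyclic_elemAb h.elem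
    ((Nat.pow_le_pow_right hD.prime.pos (by norm_num)).trans hA3)
  rwa [CfsgLib.Coprime.iSup_centralizer_eq h.elem.1 hnc h.le_normalizer
    (h.coprime hD le_rfl le_rfl)] at h1

/-- The main theorem, ambient form. -/
theorem class_bound (h : Setup D A G) (hD : D.Valid) (hk : 3 ≤ D.k) (hr : 2 ≤ D.r D.d) {c : ℕ}
    (hc : FixClass D c A G) :
    (T D.dv G D.d).lowerCentralSeries (classBound D c) = ⊥ :=
  lowerCentralSeries_T_eq_bot h hD hr (isSolvable_of_fixClass h hD hk hc) hc

end CfsgLib.CoprimeClass
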