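import Cfsg.Agent.Lib.CoprimeClass.Basic

/-!
# Special pieces of derived and lower central terms
-/

set_option autoImplicit false

namespace CfsgLib.CoprimeClass

open Subgroup

/-- The parameters: the prime, the rank, the length of the series, its kind and the rank function. -/
structure Data where
  p : ℕ
  k : ℕ
  d : ℕ
  dv : Bool
  r : ℕ → ℕ

/-- The conditions on the parameters. -/
structure Data.Valid (D : Data) : Prop where
  prime : D.p.Prime
  hk : 1 ≤ D.k
  r_zero : D.r 0 ≤ D.k - 1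
  r_succ : ∀ i < D.d, D.r (i + 1) + D.k ≤ D.r i + D.r (sig D.dv i)

variable {X : Type*} [Group X]

/-- An elementary abelian group normalising a normal subgroup of coprime order. -/
structure Setup (D : Data) (A G : Subgroup X) : Prop where
  elem : Cfsg.IsElementaryAbelian D.p A
  card : Nat.card A = D.p ^ D.k
  normal : G.Normal
  cop : ¬ D.p ∣ Nat.card G

/-- A subgroup of index at most `p`. -/
def IsHyp (D : Data) (A K : Subgroup X) : Prop := K ≤ A ∧ D.p ^ (D.k - 1) ≤ Nat.card K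

/-- The fixed points. -/
def cG (G B : Subgroup X) : Subgroup X := G ⊓ centralizer (B : Set X)

/-- The join of the pieces inside the centralizer of `K`. -/
def Q (D : Data) (G K : Subgroup X) (i : ℕ) : Subgroup X :=
  ⨆ B : {B : Subgroup X // B ≤ K ∧ D.p ^ D.r i ≤ Nat.card B},
    T D.dv (cG G B.1) i ⊓ centralizer (K : Set X)

theorem piece_le_Q (D : Data) (G : Subgroup X) {K B : Subgroup X} {i : ℕ} (hBK : B ≤ K)
    (hB : D.p ^ D.r i ≤ Nat.card B) : T D.dv (cG G B) i ⊓ centralizer (K : Set X) ≤ Q D G K i :=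
  le_iSup_of_le ⟨B, hBK, hB⟩ le_rfl

theorem cG_le (G B : Subgroup X) : cG G B ≤ G := inf_le_left

theorem cG_anti (G : Subgroup X) {B B' : Subgroup X} (h : B ≤ B') : cG G B' ≤ cG G B :=
  inf_le_inf_left _ (centralizer_le (SetLike.coe_subset_coe.2 h))

theorem Q_le (D : Data) (G K : Subgroup X) (i : ℕ) :
    Q D G K i ≤ T D.dv G i ⊓ centralizer (K : Set X) :=
  iSup_le fun B => inf_le_inf_right _ (T_mono _ (cG_le G B.1) i)

theorem Q_le_cG (D : Data) (G K : Subgroup X) (i : ℕ) : Q D G K i ≤ cG G K :=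
  (Q_le D G K i).trans (inf_le_inf_right _ (T_le _ G i))

theorem cG_le_normalizer_piece (D : Data) (G : Subgroup X) {K B : Subgroup X} (hBK : B ≤ K) (i : ℕ) :
    cG G K ≤ normalizer ((T D.dv (cG G B) i ⊓ centralizer (K : Set X) : Subgroup X) : Set X) :=
  le_normalizer_inf' (T_normalizer ((cG_anti G hBK).trans le_normalizer) i)
    (le_normalizer_centralizer inf_le_right)

theorem cG_le_normalizer_Q (D : Data) (G K : Subgroup X) (i : ℕ) :
    cG G K ≤ normalizer (Q D G K i : Set X) :=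
  le_normalizer_iSup fun B => cG_le_normalizer_piece D G B.2.1 i

section Action

variable {D : Data} {A G : Subgroup X}

theorem Setup.le_normalizer (h : Setup D A G) : A ≤ normalizer (G : Set X) := by
  have := h.normal
  rw [normalizer_eq_top]
  exact le_top

theorem Setup.le_centralizer (h : Setup D A G) {B : Subgroup X} (hB : B ≤ A) :
    A ≤ centralizer (B : Set X) := fun a ha => mem_centralizer_iff.2 fun b hb =>
  congrArg Subtype.val (h.elem.1.is_comm.comm ⟨b, hB hb⟩ ⟨a, ha⟩)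

theorem Setup.normalizes_cG (h : Setup D A G) {B : Subgroup X} (hB : B ≤ A) :
    A ≤ normalizer (cG G B : Set X) :=
  le_normalizer_inf' h.le_normalizer (le_normalizer_centralizer (h.le_centralizer hB))

theorem Setup.normalizes_piece (h : Setup D A G) {K B : Subgroup X} (hK : K ≤ A) (hB : B ≤ A)
    (i : ℕ) : A ≤ normalizer ((T D.dv (cG G B) i ⊓ centralizer (K : Set X) : Subgroup X) : Set X) :=
  le_normalizer_inf' (T_normalizer (h.normalizes_cG hB) i)
    (le_normalizer_centralizer (h.le_centralizer hK))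

theorem Setup.normalizes_Q (h : Setup D A G) {K : Subgroup X} (hK : K ≤ A) (i : ℕ) :
    A ≤ normalizer (Q D G K i : Set X) :=
  le_normalizer_iSup fun B => h.normalizes_piece hK (B.2.1.trans hK) i

theorem Setup.isHyp_self (h : Setup D A G) (hD : D.Valid) : IsHyp D A A :=
  ⟨le_rfl, by rw [h.card]; exact Nat.pow_le_pow_right hD.prime.pos (Nat.sub_le _ _)⟩

variable [Finite X]

theorem Setup.coprime (h : Setup D A G) (hD : D.Valid) {H R : Subgroup X} (hH : H ≤ A) (hR : R ≤ G) :
    (Nat.card H).Coprime (Nat.card R) := by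
  have := Fact.mk hD.prime
  exact (CfsgLib.Comp.coprime_card_elemAb (CfsgLib.Comp.elemAb_mono h.elem hH) h.cop).coprime_dvd_right
    (card_dvd_of_le hR)

theorem Setup.solvable (h : Setup D A G) (hD : D.Valid) {H : Subgroup X} (hH : H ≤ A) :
    Group.IsSolvable H := by
  have := Fact.mk hD.prime
  exact CfsgLib.Comp.isSolvable_elemAb (CfsgLib.Comp.elemAb_mono h.elem hH)

theorem IsHyp.eq_or_eq {K L : Subgroup X} (h : Setup D A G) (hD : D.Valid) (hK : IsHyp D A K)
    (hKL : K ≤ L) (hL : L ≤ A) : L = K ∨ L = A := by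
  obtain ⟨m, hm1, hm⟩ := (Nat.dvd_prime_pow hD.prime).1 (h.card ▸ card_dvd_of_le hL)
  obtain ⟨n, hn1, hn⟩ := (Nat.dvd_prime_pow hD.prime).1 (h.card ▸ card_dvd_of_le hK.1)
  have hn2 : D.k - 1 ≤ n := (Nat.pow_le_pow_iff_right hD.prime.one_lt).1 (hn ▸ hK.2)
  have hnm : n ≤ m := (Nat.pow_le_pow_iff_right hD.prime.one_lt).1
    (hn ▸ hm ▸ Nat.le_of_dvd Nat.card_pos (card_dvd_of_le hKL))
  rcases Nat.eq_or_lt_of_le hm1 with e | e
  · exact Or.inr (eq_of_le_of_card_ge hL (by rw [h.card, hm, e]))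
  · exact Or.inl (eq_of_le_of_card_ge hKL (by
      rw [hn, hm]; exact Nat.pow_le_pow_right hD.prime.pos (by omega))).symm

/-- Generation by the fixed points of the subgroups of index `p`. -/
theorem Setup.le_iSup_cG (h : Setup D A G) (hD : D.Valid) {R : Subgroup X} (hR : R ≤ G)
    (hAR : A ≤ normalizer (R : Set X)) :
    R ≤ ⨆ K : {K : Subgroup X // IsHyp D A K}, R ⊓ centralizer (K.1 : Set X) := by
  have := Fact.mk hD.prime
  have hne : A ≠ ⊥ := by
    intro e
    have h1 := h.card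
    rw [e, card_bot] at h1
    have := Nat.one_lt_pow (n := D.k) (by have := hD.hk; omega) hD.prime.one_lt
    omega
  conv_lhs => rw [CfsgLib.Comp.eq_iSup_centralizer_hyperplane h.elem hne
    (fun hd => h.cop (hd.trans (card_dvd_of_le hR))) hAR]
  refine iSup_le fun B => le_iSup_of_le ⟨B.1, B.2.1, ?_⟩ le_rfl
  have h1 := relIndex_mul_relIndex ⊥ B.1 A bot_le B.2.1
  rw [relIndex_bot_left, relIndex_bot_left, B.2.2, h.card] at h1
  have h2 : D.p ^ (D.k - 1) * D.p = D.p ^ D.k := by
    rw [← pow_succ, Nat.sub_add_cancel hD.hk]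
  exact le_of_eq (Nat.eq_of_mul_eq_mul_right hD.prime.pos (h2.trans h1.symm))

theorem card_inf_ge (h : Setup D A G) (hD : D.Valid) {B B' : Subgroup X} (hB : B ≤ A) (hB' : B' ≤ A)
    {a b c : ℕ} (ha : D.p ^ a ≤ Nat.card B) (hb : D.p ^ b ≤ Nat.card B') (hc : c + D.k ≤ a + b) :
    D.p ^ c ≤ Nat.card ↥(B ⊓ B') := by
  have hn : B' ≤ normalizer (B : Set X) :=
    (hB'.trans (h.le_centralizer hB)).trans (centralizer_le_normalizer _)
  have e1 := relIndex_mul_relIndex ⊥ B (B ⊔ B') bot_le le_sup_left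
  have e2 := relIndex_mul_relIndex ⊥ (B ⊓ B') B' bot_le inf_le_right
  rw [relIndex_bot_left, relIndex_bot_left] at e1 e2
  have e3 : B.relIndex (B ⊔ B') = B.relIndex B' := by
    exact relIndex_sup_eq hn
  rw [e3] at e1
  rw [inf_relIndex_right] at e2
  have hle : Nat.card ↥(B ⊔ B') ≤ D.p ^ D.k := h.card ▸ card_le_of_le (sup_le hB hB')
  have : D.p ^ (c + D.k) ≤ Nat.card ↥(B ⊓ B') * D.p ^ D.k := by
    calc D.p ^ (c + D.k) ≤ D.p ^ (a + b) := Nat.pow_le_pow_right hD.prime.pos hc
      _ ≤ Nat.card B * Nat.card B' := by rw [pow_add]; exact Nat.mul_le_mul ha hb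
      _ = Nat.card ↥(B ⊓ B') * Nat.card ↥(B ⊔ B') := by rw [← e1, ← e2]; ring
      _ ≤ _ := Nat.mul_le_mul_left _ hle
  rw [pow_add] at this
  exact Nat.le_of_mul_le_mul_right this (pow_pos hD.prime.pos _)

end Action

end CfsgLib.CoprimeClass
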