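import Mathlib.GroupTheory.Transfer
import Mathlib.GroupTheory.Sylow
import Mathlib.GroupTheory.Abelianization.Defs

/-!
# Central elements in `⁅M, G⁆`
-/

set_option autoImplicit false

namespace CfsgLib.CoprimeClass

open Subgroup
open scoped commutatorElement

universe u

/-- If `S` has index prime to `q`, a central `q`-element of the derived group that lies in `S`
lies in the derived group of `S`. -/
theorem central_mem_commutator_subgroup {Y : Type u} [Group Y] [Finite Y] {q : ℕ}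
    (hq : q.Prime) (S : Subgroup Y) (hS : ¬ q ∣ S.index) {z : Y} (hz : z ∈ center Y)
    (hzq : ∃ a, z ^ q ^ a = 1) (hzY : z ∈ commutator Y) (hzS : z ∈ S) : z ∈ ⁅S, S⁆ := by
  have key : ∀ (k : ℕ) (g₀ : Y), g₀⁻¹ * z ^ k * g₀ ∈ S → g₀⁻¹ * z ^ k * g₀ = z ^ k := by
    intro k g₀ _
    rw [mul_assoc, mem_center_iff.1 (pow_mem hz k) g₀ |>.symm, inv_mul_cancel_left]
  let φ : S →* Abelianization S := Abelianization.of
  have h1 : MonoidHom.transfer φ z = 1 := Abelianization.commutator_subset_ker _ hzY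
  rw [MonoidHom.transfer_eq_pow φ z key, ← MonoidHom.mem_ker, Abelianization.ker_of] at h1
  have h2 : z ^ S.index ∈ ⁅S, S⁆ := by
    have h3 := mem_map_of_mem S.subtype h1
    rw [map_subtype_commutator] at h3
    exact h3
  obtain ⟨a, ha⟩ := hzq
  have hcop : (orderOf z).Coprime S.index :=
    (((hq.coprime_iff_not_dvd).2 hS).pow_left a).coprime_dvd_left (orderOf_dvd_of_pow_eq_one ha)
  obtain ⟨t, ht⟩ := exists_pow_eq_self_of_coprime hcop.symm
  rw [← ht]
  exact pow_mem h2 t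

/-- A central `q`-element of `⁅M, G⁆` lies in `⁅M ⊓ P, P⁆` for a Sylow `q`-subgroup `P`. -/
theorem central_mem_commutator_sylow {G : Type u} [Group G] [Finite G] {q : ℕ} [hq : Fact q.Prime]
    (M : Subgroup G) [hM : M.Normal] (P : Sylow q G) {z : G} (hz : z ∈ center G)
    (hzq : ∃ a, z ^ q ^ a = 1) (hzM : z ∈ ⁅M, (⊤ : Subgroup G)⁆) :
    z ∈ ⁅M ⊓ (P : Subgroup G), (P : Subgroup G)⁆ := by
  classical
  set R := M ⊓ (P : Subgroup G) with hR
  set D := ⁅R, (P : Subgroup G)⁆ with hD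
  -- the pairs congruent modulo `M`
  let Y : Subgroup (G × G) :=
    { carrier := {x | x.1 * x.2⁻¹ ∈ M}
      one_mem' := by simp
      mul_mem' := fun {x y} hx hy => by
        show x.1 * y.1 * (x.2 * y.2)⁻¹ ∈ M
        rw [show x.1 * y.1 * (x.2 * y.2)⁻¹ = x.1 * x.2⁻¹ * (x.2 * (y.1 * y.2⁻¹) * x.2⁻¹) by group]
        exact mul_mem hx (hM.conj_mem _ hy _)
      inv_mem' := fun {x} hx => by
        show x.1⁻¹ * (x.2⁻¹)⁻¹ ∈ M
        rw [show x.1⁻¹ * (x.2⁻¹)⁻¹ = x.2⁻¹ * (x.1 * x.2⁻¹)⁻¹ * (x.2⁻¹)⁻¹ by group]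
        exact hM.conj_mem _ (inv_mem hx) _ }
  let S : Subgroup Y := ((P : Subgroup G).prod (P : Subgroup G)).subgroupOf Y
  -- orders
  let eY : Y ≃ M × G :=
    { toFun := fun x => (⟨x.1.1 * x.1.2⁻¹, x.2⟩, x.1.2)
      invFun := fun x => ⟨(x.1 * x.2, x.2), by show (x.1 : G) * x.2 * x.2⁻¹ ∈ M; simp⟩
      left_inv := fun x => Subtype.ext (Prod.ext (by simp) rfl)
      right_inv := fun x => Prod.ext (Subtype.ext (by simp)) rfl }
  let eS : S ≃ R × (P : Subgroup G) :=
    { toFun := fun x => (⟨x.1.1.1 * x.1.1.2⁻¹, mem_inf.2 ⟨x.1.2, mul_mem (show x.1.1.1 ∈ (P : Subgroup G) from x.2.1)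
          (inv_mem (show x.1.1.2 ∈ (P : Subgroup G) from x.2.2))⟩⟩, ⟨x.1.1.2, x.2.2⟩)
      invFun := fun x => ⟨⟨((x.1 : G) * x.2, x.2),
          by show (x.1 : G) * x.2 * (x.2 : G)⁻¹ ∈ M; simpa using x.1.2.1⟩,
        ⟨mul_mem (show (x.1 : G) ∈ (P : Subgroup G) from x.1.2.2) x.2.2, x.2.2⟩⟩
      left_inv := fun x => Subtype.ext (Subtype.ext (Prod.ext (by simp) rfl))
      right_inv := fun x => Prod.ext (Subtype.ext (by simp)) (Subtype.ext rfl) }
  have hcardY : Nat.card Y = Nat.card M * Nat.card G := by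
    rw [Nat.card_congr eY, Nat.card_prod]
  have hcardS : Nat.card S = Nat.card R * Nat.card (P : Subgroup G) := by
    rw [Nat.card_congr eS, Nat.card_prod]
  have hPi : ¬ q ∣ (P : Subgroup G).index := P.not_dvd_index
  have hSi : ¬ q ∣ S.index := by
    intro h
    have hRM : Nat.card R * R.relIndex M = Nat.card M := by
      rw [← relIndex_bot_left R, relIndex_mul_relIndex _ _ _ bot_le inf_le_left, relIndex_bot_left]
    have h1 := S.card_mul_index
    rw [hcardS, hcardY, ← hRM, ← (P : Subgroup G).card_mul_index] at h1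
    have h2 : S.index = R.relIndex M * (P : Subgroup G).index := by
      refine Nat.eq_of_mul_eq_mul_left (n := Nat.card R * Nat.card (P : Subgroup G))
        (Nat.mul_pos Nat.card_pos Nat.card_pos) ?_
      rw [h1]
      ring
    rw [h2] at h
    rcases hq.out.dvd_mul.1 h with h | h
    · have e1 := relIndex_mul_relIndex ⊥ (P : Subgroup G) ((P : Subgroup G) ⊔ M) bot_le le_sup_left
      have e2 := relIndex_mul_relIndex ⊥ M ((P : Subgroup G) ⊔ M) bot_le le_sup_right
      have e3 := relIndex_mul_relIndex ⊥ R (P : Subgroup G) bot_le inf_le_right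
      rw [relIndex_bot_left, relIndex_bot_left] at e1 e2 e3
      rw [relIndex_sup_right] at e2
      rw [show R.relIndex (P : Subgroup G) = M.relIndex (P : Subgroup G) from inf_relIndex_right M _] at e3
      have hr : R.relIndex M = (P : Subgroup G).relIndex ((P : Subgroup G) ⊔ M) := by
        have hpos : 0 < Nat.card R * M.relIndex (P : Subgroup G) := by rw [e3]; exact Nat.card_pos
        refine Nat.eq_of_mul_eq_mul_left hpos ?_
        calc Nat.card R * M.relIndex (P : Subgroup G) * R.relIndex M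
            = Nat.card R * R.relIndex M * M.relIndex (P : Subgroup G) := by ring
          _ = _ := by rw [hRM, e2, ← e1, e3]
      rw [hr] at h
      exact hPi (h.trans ⟨_, (relIndex_mul_index le_sup_left).symm⟩)
    · exact hPi h
  -- the element `(z, 1)`
  have hzM' : z ∈ M := commutator_le_left M ⊤ hzM
  have hz1 : ((z, 1) : G × G) ∈ Y := by show z * 1⁻¹ ∈ M; simpa using hzM'
  let ι : M →* Y :=
    { toFun := fun m => ⟨((m : G), 1), by show (m : G) * 1⁻¹ ∈ M; simp⟩
      map_one' := rfl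
      map_mul' := fun a b => Subtype.ext (Prod.ext rfl (one_mul 1).symm) }
  let z' : Y := ⟨(z, 1), hz1⟩
  have hz'c : z' ∈ center Y := by
    rw [mem_center_iff]
    rintro ⟨⟨a, b⟩, h⟩
    exact Subtype.ext (Prod.ext (mem_center_iff.1 hz a) (by simp [z']))
  have hz'q : ∃ a, z' ^ q ^ a = 1 := by
    obtain ⟨a, ha⟩ := hzq
    exact ⟨a, Subtype.ext (Prod.ext ha (one_pow _))⟩
  have hz'Y : z' ∈ commutator Y := by
    have key : ∀ x ∈ ⁅M, (⊤ : Subgroup G)⁆, ∀ hx : x ∈ M, ι ⟨x, hx⟩ ∈ commutator Y := by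
      intro x hx
      induction hx using Subgroup.closure_induction with
      | mem x hx =>
        obtain ⟨m, hm, g, -, rfl⟩ := hx
        intro hmg
        have e : ι ⟨⁅m, g⁆, hmg⟩ = ⁅ι ⟨m, hm⟩, (⟨(g, g), by show g * g⁻¹ ∈ M; simp⟩ : Y)⁆ :=
          Subtype.ext (Prod.ext rfl (by
            show (1 : G) = ⁅(1 : G), g⁆
            rw [commutatorElement_one_left]))
        rw [e, _root_.commutator_def]
        exact commutator_mem_commutator (mem_top _) (mem_top _)
      | one => intro h; exact (show ι ⟨1, h⟩ = 1 from map_one ι) ▸ one_mem _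
      | mul a b ha hb iha ihb =>
        intro h
        have e := mul_mem (iha (commutator_le_left M ⊤ ha)) (ihb (commutator_le_left M ⊤ hb))
        rw [← map_mul] at e
        exact e
      | inv a ha iha =>
        intro h
        have e := inv_mem (iha (commutator_le_left M ⊤ ha))
        rw [← map_inv] at e
        exact e
    exact key z hzM hzM'
  have hzP : z ∈ (P : Subgroup G) := by
    obtain ⟨a, ha⟩ := hzq
    have hpg : IsPGroup q (zpowers z) := IsPGroup.of_card_dvd_pow (n := a) (by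
      rw [Nat.card_zpowers]; exact orderOf_dvd_of_pow_eq_one ha)
    obtain ⟨Q, hQ⟩ := hpg.exists_le_sylow
    obtain ⟨g, rfl⟩ := MulAction.exists_smul_eq G P Q
    have h1 := hQ (mem_zpowers z)
    rw [Sylow.coe_subgroup_smul, mem_pointwise_smul_iff_inv_smul_mem] at h1
    simp only [MulAut.smul_def] at h1
    rw [MulAut.conj_inv_apply, mul_assoc, ← mem_center_iff.1 hz g, inv_mul_cancel_left] at h1
    exact h1
  have h := central_mem_commutator_subgroup hq.out S hSi hz'c hz'q hz'Y ⟨hzP, one_mem _⟩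
  -- project to the quotient by `D`
  have hDP : D ≤ (P : Subgroup G) := (commutator_mono inf_le_right le_rfl).trans (commutator_le_self _)
  have hRP : (P : Subgroup G) ≤ normalizer (D : Set G) := normalizer_commutator_ge_right R _
  have key : ∀ x : Y, x ∈ ⁅S, S⁆ → x.1.1 * x.1.2⁻¹ ∈ D ∧ x.1.2 ∈ (P : Subgroup G) := by
    intro x hx
    induction hx using Subgroup.closure_induction with
    | mem x hx =>
      obtain ⟨⟨⟨a, b⟩, hab⟩, ⟨ha, hb⟩, ⟨⟨c, e⟩, hce⟩, ⟨hc, he⟩, rfl⟩ := hx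
      change a ∈ (P : Subgroup G) at ha
      change b ∈ (P : Subgroup G) at hb
      change c ∈ (P : Subgroup G) at hc
      change e ∈ (P : Subgroup G) at he
      refine ⟨?_, mul_mem (mul_mem (mul_mem hb he) (inv_mem hb)) (inv_mem he)⟩
      show ⁅a, c⁆ * ⁅b, e⁆⁻¹ ∈ D
      have hm : a * b⁻¹ ∈ R := mem_inf.2 ⟨hab, mul_mem ha (inv_mem hb)⟩
      have hn : c * e⁻¹ ∈ R := mem_inf.2 ⟨hce, mul_mem hc (inv_mem he)⟩
      generalize hgm : a * b⁻¹ = m at hm
      generalize hgn : c * e⁻¹ = n at hn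
      have ha' : a = m * b := by rw [← hgm]; group
      have hc' : c = n * e := by rw [← hgn]; group
      subst ha' hc'
      have hconj : ∀ g ∈ (P : Subgroup G), ∀ w ∈ D, g * w * g⁻¹ ∈ D :=
        fun g hg w hw => (mem_normalizer_iff.1 (hRP hg) w).1 hw
      rw [show ⁅m * b, n * e⁆ * ⁅b, e⁆⁻¹ = (m * ⁅b, n⁆ * m⁻¹) * ((m * n) * ⁅b, e⁆ * (m * n)⁻¹ * ⁅b, e⁆⁻¹)
          * (⁅b, e⁆ * (⁅m, n⁆ * (n * ⁅m, e⁆ * n⁻¹)) * ⁅b, e⁆⁻¹) by
        simp only [commutatorElement_def]; group]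
      refine mul_mem (mul_mem ?_ ?_) ?_
      · refine hconj m hm.2 _ ?_
        rw [← commutatorElement_inv]
        exact inv_mem (commutator_mem_commutator hn hb)
      · have : (m * n) * ⁅b, e⁆ * (m * n)⁻¹ * ⁅b, e⁆⁻¹ = ⁅m * n, ⁅b, e⁆⁆ := by
          simp only [commutatorElement_def]
        rw [this]
        exact commutator_mem_commutator (mul_mem hm hn)
          (mul_mem (mul_mem (mul_mem hb he) (inv_mem hb)) (inv_mem he))
      · refine hconj _ (mul_mem (mul_mem (mul_mem hb he) (inv_mem hb)) (inv_mem he)) _ (mul_mem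
          (commutator_mem_commutator hm hn.2) (hconj n hn.2 _ (commutator_mem_commutator hm he)))
    | one => exact ⟨by simp, one_mem _⟩
    | mul x y _ _ hx hy =>
      refine ⟨?_, mul_mem hx.2 hy.2⟩
      show x.1.1 * y.1.1 * (x.1.2 * y.1.2)⁻¹ ∈ D
      rw [show x.1.1 * y.1.1 * (x.1.2 * y.1.2)⁻¹
        = x.1.1 * x.1.2⁻¹ * (x.1.2 * (y.1.1 * y.1.2⁻¹) * x.1.2⁻¹) by group]
      exact mul_mem hx.1 ((mem_normalizer_iff.1 (hRP hx.2) _).1 hy.1)
    | inv x _ hx =>
      refine ⟨?_, inv_mem hx.2⟩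
      show x.1.1⁻¹ * (x.1.2⁻¹)⁻¹ ∈ D
      rw [show x.1.1⁻¹ * (x.1.2⁻¹)⁻¹ = x.1.2⁻¹ * (x.1.1 * x.1.2⁻¹)⁻¹ * (x.1.2⁻¹)⁻¹ by group]
      exact (mem_normalizer_iff.1 (hRP (inv_mem hx.2)) _).1 (inv_mem hx.1)
  simpa [z'] using (key _ h).1

end CfsgLib.CoprimeClass
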