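import Cfsg.Agent.Lib.CoprimeClass.Layer
import Cfsg.Agent.Lib.CoprimeClass.Transfer
import Mathlib.GroupTheory.Nilpotent
import Mathlib.GroupTheory.Solvable

/-!
# The fixed points in a derived or lower central term are generated by pieces
-/

set_option autoImplicit false

namespace CfsgLib.CoprimeClass

open Subgroup
open scoped commutatorElement

universe u

variable {X : Type u} [Group X] [Finite X] {D : Data} {A G : Subgroup X}

omit [Finite X] in
theorem commutator_abelian_left_le {ι : Sort*} {V W R : Subgroup X} {P : ι → Subgroup X}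
    (hV : ∀ x ∈ V, ∀ y ∈ V, x * y = y * x) (hP : ∀ a, P a ≤ V) (hWV : W ≤ V)
    (h : ∀ a, ⁅P a, R⁆ ≤ W) : ⁅⨆ a, P a, R⁆ ≤ W :=
  commutator_left_iSup_le h fun a => (hP a).trans (le_normalizer_of_commutator_le (by
    refine commutator_le.2 fun x hx y hy => ?_
    rw [commutatorElement_def, hV x hx y (hWV hy), mul_inv_cancel_right, mul_inv_cancel]
    exact one_mem _))

/-- The case of a minimal normal subgroup not centralised by the second term. -/
theorem noncentral_case (h : Setup D A G) (hD : D.Valid) {i : ℕ} (hi : i < D.d)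
    (hg : GenAt D A G i) (hg' : GenAt D A G (sig D.dv i)) {V : Subgroup X} [V.Normal]
    (hV : ∀ x ∈ V, ∀ y ∈ V, x * y = y * x) (hVi : V ≤ T D.dv G i)
    (hVc : V ≤ ⁅V, T D.dv G (sig D.dv i)⁆) {K : Subgroup X} (hK : IsHyp D A K) :
    V ⊓ centralizer (K : Set X) ≤ Qp D A G K (i + 1) := by
  have := h.normal
  have hVG : V ≤ G := hVi.trans (T_le _ G i)
  have hAV : A ≤ normalizer (V : Set X) := by rw [normalizer_eq_top]; exact le_top
  set M' := T D.dv G (sig D.dv i) with hM'
  have hAM' : A ≤ normalizer (M' : Set X) := T_normalizer h.le_normalizer _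
  let R : {K : Subgroup X // IsHyp D A K} → Subgroup X := fun K => M' ⊓ Q D G K.1 (sig D.dv i)
  set W₁ := ⨆ K, ⁅V, R K⁆ with hW₁
  have hWV : W₁ ≤ V := iSup_le fun K => commutator_le_left V _
  have hn : ∀ K, R K ≤ normalizer (W₁ : Set X) := fun K => le_normalizer_of_commutator_le <| by
    refine (commutator_mono le_rfl hWV).trans ?_
    rw [commutator_comm]
    exact le_iSup (fun K => ⁅V, R K⁆) K
  have h1 : ⁅V, M'⁆ ≤ W₁ :=
    (commutator_mono le_rfl (le_iSup_inf_Q h hD hg' le_rfl hAM')).trans
      (commutator_right_iSup_le (fun K => le_iSup (fun K => ⁅V, R K⁆) K) hn)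
  set W := ⨆ Z : {Z : Subgroup X // Z ≤ A}, V ⊓ Q D G Z.1 (i + 1) with hW
  have h2 : W₁ ≤ W := iSup_le fun K₂ => by
    refine (commutator_mono (le_iSup_inf_Q h hD hg hVi hAV) le_rfl).trans ?_
    refine commutator_abelian_left_le hV (fun K => inf_le_left) (iSup_le fun Z => inf_le_left) ?_
    intro K₁
    refine le_trans ?_ (le_iSup_of_le (⟨K₁.1 ⊓ K₂.1, inf_le_left.trans K₁.2.1⟩ :
      {Z : Subgroup X // Z ≤ A}) le_rfl)
    exact le_inf ((commutator_mono inf_le_left le_rfl).trans (commutator_le_left V _))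
      ((commutator_mono inf_le_right inf_le_right).trans (commutator_Q_le hD h hi K₁.2.1 K₂.2.1))
  refine layer_inf_centralizer_le h hD hVG (bot_le : ⊥ ≤ V) hAV
    (by rw [normalizer_eq_top]; exact le_top) ?_ ?_ hK (inf_le_left.trans bot_le)
  · refine commutator_le.2 fun x hx y hy => ?_
    rw [mem_bot, commutatorElement_eq_one_iff_mul_comm]
    exact hV x hx y hy
  · exact ((hVc.trans h1).trans h2).trans le_sup_right

/-- The case of the commutator of two invariant `q`-subgroups. -/
theorem sylow_case (h : Setup D A G) (hD : D.Valid) {i : ℕ} (hi : i < D.d)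
    (hg : GenAt D A G i) (hg' : GenAt D A G (sig D.dv i)) {R P : Subgroup X}
    (hRM : R ≤ T D.dv G i) (hPM : P ≤ T D.dv G (sig D.dv i)) (hRP : R ≤ P)
    (hPR : P ≤ normalizer (R : Set X)) (hP : Group.IsNilpotent P)
    (hAR : A ≤ normalizer (R : Set X)) (hAP : A ≤ normalizer (P : Set X))
    {K : Subgroup X} (hK : IsHyp D A K) :
    ⁅R, P⁆ ⊓ centralizer (K : Set X) ≤ Qp D A G K (i + 1) := by
  have hPG : P ≤ G := hPM.trans (T_le _ G _)
  let L : ℕ → Subgroup X := fun j => Nat.rec R (fun _ Y => ⁅Y, P⁆) j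
  have hL : ∀ j, L j ≤ P.lowerCentralSeries j ∧ L (j + 1) ≤ L j ∧ L j ≤ R ∧
      A ≤ normalizer (SetLike.coe (L j)) := by
    intro j
    induction j with
    | zero => exact ⟨hRP, le_normalizer_iff_commutator_le_left.1 hPR, le_rfl, hAR⟩
    | succ j ih =>
      exact ⟨commutator_mono ih.1 le_rfl, commutator_mono ih.2.1 le_rfl, ih.2.1.trans ih.2.2.1,
        le_normalizer_commutator ih.2.2.2 hAP⟩
  obtain ⟨n, hn⟩ := (Subgroup.isNilpotent_iff_lowerCentralSeries P).1 hP
  have hsrc := le_iSup_inf_Q h hD hg' hPM hAP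
  have key : ∀ m j, n ≤ j + 1 + m → L (j + 1) ⊓ centralizer (K : Set X) ≤ Qp D A G K (i + 1) := by
    intro m
    induction m with
    | zero =>
      intro j hj
      refine le_trans inf_le_left (le_trans (le_of_eq ?_) (bot_le : ⊥ ≤ Qp D A G K (i + 1)))
      exact eq_bot_iff.2 ((hL (j + 1)).1.trans
        ((Subgroup.lowerCentralSeries_antitone P (by omega)).trans hn.le))
    | succ m ih =>
      intro j hj
      have hLP : ∀ j, L j ≤ P := fun j => (hL j).2.2.1.trans hRP
      set W := L (j + 2) ⊔ ⨆ Z : {Z : Subgroup X // Z ≤ A}, L (j + 1) ⊓ Q D G Z.1 (i + 1) with hW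
      have hWL : W ≤ L (j + 1) := sup_le (hL (j + 1)).2.1 (iSup_le fun Z => inf_le_left)
      have hPW : P ≤ normalizer (W : Set X) := le_normalizer_of_commutator_le <| by
        refine (commutator_mono le_rfl hWL).trans ?_
        rw [commutator_comm]
        exact le_sup_left
      refine layer_inf_centralizer_le (L := L (j + 1)) (K₀ := L (j + 1 + 1)) h hD
        ((hLP (j + 1)).trans hPG) (hL (j + 1)).2.1 (hL (j + 1)).2.2.2
        (hL (j + 1 + 1)).2.2.2 (commutator_mono le_rfl (hLP (j + 1))) ?_ hK (ih (j + 1) (by omega))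
      show ⁅L j, P⁆ ≤ W
      refine (commutator_mono (le_iSup_inf_Q h hD hg ((hL j).2.2.1.trans hRM) (hL j).2.2.2) hsrc).trans ?_
      refine commutator_iSup_le (fun K₁ K₂ => ?_) (fun K₁ => ?_) fun K₂ => inf_le_left.trans hPW
      · refine le_trans ?_ le_sup_right
        refine le_trans ?_ (le_iSup_of_le (⟨K₁.1 ⊓ K₂.1, inf_le_left.trans K₁.2.1⟩ :
          {Z : Subgroup X // Z ≤ A}) le_rfl)
        exact le_inf (commutator_mono inf_le_left inf_le_left)
          ((commutator_mono inf_le_right inf_le_right).trans (commutator_Q_le hD h hi K₁.2.1 K₂.2.1))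
      · exact (inf_le_left.trans (hLP j)).trans hPW
  exact key n 0 (by omega)

/-- The case of a minimal normal `q`-subgroup centralised by the second term. -/
theorem central_case (h : Setup D A G) (hD : D.Valid) {i : ℕ} (hi : i < D.d)
    (hg : GenAt D A G i) (hg' : GenAt D A G (sig D.dv i)) {V : Subgroup X} [hVn : V.Normal]
    {q : ℕ} [Fact q.Prime] (hVq : ∀ v ∈ V, v ^ q = 1)
    (hVi : V ≤ T D.dv G (i + 1)) (hVc : ⁅V, T D.dv G (sig D.dv i)⁆ = ⊥)
    {K : Subgroup X} (hK : IsHyp D A K) :
    V ⊓ centralizer (K : Set X) ≤ Qp D A G K (i + 1) := by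
  have := h.normal
  set M := T D.dv G i with hMdef
  set M' := T D.dv G (sig D.dv i) with hM'
  have hMM' : M ≤ M' := T_le_sig _ G i
  have hVM : V ≤ M' := (hVi.trans (T_succ_le _ G i)).trans hMM'
  have hM'G : M' ≤ G := T_le _ G _
  have : M.Normal := T_normal _ G i
  have hAM' : A ≤ normalizer (M' : Set X) := T_normalizer h.le_normalizer _
  have hVpg : IsPGroup q V := fun v => ⟨1, Subtype.ext (by simpa using hVq v v.2)⟩
  obtain ⟨P, hVP, hAP⟩ := CfsgLib.Coprime.exists_invariant_sylow_ge (p := q) hAM'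
    (h.coprime hD le_rfl hM'G) (Or.inl (h.solvable hD le_rfl)) hVpg hVM
    (by rw [normalizer_eq_top]; exact le_top)
  set P' := (P : Subgroup M').map M'.subtype with hP'
  have hP'M : P' ≤ M' := map_subtype_le _
  have hPnil : Group.IsNilpotent P' := (P.isPGroup'.map M'.subtype).isNilpotent
  have hle : V ≤ ⁅M ⊓ P', P'⁆ := by
    intro z hz
    have hzc : (⟨z, hVM hz⟩ : M') ∈ center M' := by
      rw [mem_center_iff]
      intro g
      refine Subtype.ext (commutatorElement_eq_one_iff_mul_comm.1 ?_).symm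
      show ⁅z, (g : X)⁆ = 1
      rw [← mem_bot, ← hVc]
      exact commutator_mem_commutator hz g.2
    have hzM : (⟨z, hVM hz⟩ : M') ∈ ⁅M.subgroupOf M', (⊤ : Subgroup M')⁆ := by
      have h1 : z ∈ (⁅M.subgroupOf M', (⊤ : Subgroup M')⁆).map M'.subtype := by
        rw [map_commutator, subgroupOf_map_subtype, inf_eq_left.2 hMM', ← MonoidHom.range_eq_map,
          range_subtype, ← T_succ]
        exact hVi hz
      obtain ⟨y, hy, hyz⟩ := h1
      rwa [show y = ⟨z, hVM hz⟩ from Subtype.ext hyz] at hy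
    have : (M.subgroupOf M').Normal := (inferInstance : M.Normal).subgroupOf M'
    have h2 := central_mem_commutator_sylow (M.subgroupOf M') P hzc
      ⟨1, Subtype.ext (by simpa using hVq z hz)⟩ hzM
    have h3 := mem_map_of_mem M'.subtype h2
    rw [map_commutator, map_inf _ _ _ M'.subtype_injective, subgroupOf_map_subtype,
      inf_eq_left.2 hMM', ← hP'] at h3
    exact h3
  refine (inf_le_inf_right _ hle).trans
    (sylow_case h hD hi hg hg' inf_le_left hP'M inf_le_right ?_ hPnil
      (le_normalizer_inf' (T_normalizer h.le_normalizer _) hAP) hAP hK)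
  exact le_normalizer_inf' (by rw [normalizer_eq_top]; exact le_top) le_normalizer

omit [Finite X] in
/-- A nontrivial solvable normal subgroup contains a minimal normal subgroup. -/
theorem exists_minimal_normal [Finite X] {G : Subgroup X} [G.Normal] (hs : Group.IsSolvable G)
    (hG : G ≠ ⊥) :
    ∃ V : Subgroup X, V.Normal ∧ V ≤ G ∧ V ≠ ⊥ ∧ (∀ x ∈ V, ∀ y ∈ V, x * y = y * x) ∧
      (∀ W : Subgroup X, W.Normal → W ≤ V → W = ⊥ ∨ W = V) ∧
      ∃ q, q.Prime ∧ ∀ v ∈ V, v ^ q = 1 := by
  classical
  obtain ⟨V, ⟨hVn, hVG, hV⟩, hmin⟩ := exists_minimalFor_of_wellFoundedLT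
    (fun V : Subgroup X => V.Normal ∧ V ≤ G ∧ V ≠ ⊥) id ⟨G, inferInstance, le_rfl, hG⟩
  have hmin' : ∀ W : Subgroup X, W.Normal → W ≤ V → W = ⊥ ∨ W = V := by
    intro W hW hle
    by_cases hW0 : W = ⊥
    · exact Or.inl hW0
    · exact Or.inr (le_antisymm hle (hmin ⟨hW, hle.trans hVG, hW0⟩ hle))
  have : Nontrivial V := (nontrivial_iff_ne_bot V).2 hV
  have hlt : ⁅V, V⁆ ≠ V := by
    intro e
    have hs' : Group.IsSolvable V := CfsgLib.Coprime.isSolvable_of_le hs hVG
    have h1 := Group.IsSolvable.commutator_lt_top_of_nontrivial V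
    refine h1.ne ?_
    apply map_injective V.subtype_injective
    rw [map_subtype_commutator, ← MonoidHom.range_eq_map, range_subtype, e]
  have hab : ∀ x ∈ V, ∀ y ∈ V, x * y = y * x := by
    intro x hx y hy
    refine commutatorElement_eq_one_iff_mul_comm.1 ?_
    rcases hmin' ⁅V, V⁆ inferInstance (commutator_le_self V) with e | e
    · rw [← mem_bot, ← e]; exact commutator_mem_commutator hx hy
    · exact absurd e hlt
  refine ⟨V, hVn, hVG, hV, hab, hmin', (Nat.card V).minFac, Nat.minFac_prime ?_, ?_⟩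
  · exact Finite.one_lt_card.ne'
  · have hq : (Nat.card V).minFac.Prime := Nat.minFac_prime Finite.one_lt_card.ne'
    set q := (Nat.card V).minFac
    let W : Subgroup X :=
      { carrier := {v | v ∈ V ∧ v ^ q = 1}
        one_mem' := ⟨one_mem _, one_pow _⟩
        mul_mem' := fun {a b} ha hb => ⟨mul_mem ha.1 hb.1, by
          rw [(show Commute a b from hab a ha.1 b hb.1).mul_pow, ha.2, hb.2, one_mul]⟩
        inv_mem' := fun {a} ha => ⟨inv_mem ha.1, by rw [inv_pow, ha.2, inv_one]⟩ }
    have hWn : W.Normal := ⟨fun v hv g => ⟨hVn.conj_mem v hv.1 g, by rw [conj_pow, hv.2]; group⟩⟩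
    rcases hmin' W hWn (fun v hv => hv.1) with e | e
    · exfalso
      have := Fact.mk hq
      obtain ⟨v, hv⟩ := exists_prime_orderOf_dvd_card' q (Nat.minFac_dvd (Nat.card V))
      have h1 : (v : X) ∈ W := ⟨v.2, by
        have h2 := pow_orderOf_eq_one v
        rw [hv] at h2
        exact_mod_cast congrArg Subtype.val h2⟩
      rw [e, mem_bot] at h1
      rw [show v = 1 from Subtype.ext h1, orderOf_one] at hv
      exact hq.one_lt.ne hv
    · intro v hv
      rw [← e] at hv
      exact hv.2

theorem Qp_map_le {Y : Type u} [Group Y] (f : X →* Y) (h : Setup D A G) (hD : D.Valid)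
    {K : Subgroup X} (hK : K ≤ A) (hf : ∀ x ∈ A, f x = 1 → x = 1) (i : ℕ) :
    Qp D (A.map f) (G.map f) (K.map f) i ≤ (Qp D A G K i).map f := by
  have key : ∀ K, K ≤ A → Q D (G.map f) (K.map f) i ≤ (Q D G K i).map f := by
    intro K hK
    refine iSup_le fun B => ?_
    obtain ⟨B', hB', hcard⟩ := B
    set B := K ⊓ B'.comap f with hB
    have hBA : B ≤ A := inf_le_left.trans hK
    have hBm : B.map f = B' := by
      refine le_antisymm ((map_mono inf_le_right).trans (map_comap_le f B')) fun y hy => ?_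
      obtain ⟨x, hx, rfl⟩ := hB' hy
      exact ⟨x, ⟨hx, hy⟩, rfl⟩
    have hBc : Nat.card B = Nat.card B' := by
      rw [← hBm]
      refine Nat.card_congr (Equiv.ofBijective (f.subgroupMap B) ⟨?_, f.subgroupMap_surjective B⟩)
      intro a b e
      have e' : f a = f b := congrArg Subtype.val e
      refine Subtype.ext (inv_mul_eq_one.1 (hf _ (mul_mem (inv_mem (hBA a.2)) (hBA b.2)) ?_))
      rw [map_mul, map_inv, e', inv_mul_cancel]
    refine le_trans (le_of_eq ?_) (map_mono (piece_le_Q D G (inf_le_left : B ≤ K) (hBc ▸ hcard)))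
    show T D.dv (cG (G.map f) B') i ⊓ centralizer (K.map f : Set Y) = _
    have e1 : cG (G.map f) B' = (cG G B).map f := by
      rw [cG, cG, CfsgLib.Coprime.map_inf_centralizer f (hBA.trans h.le_normalizer)
        (h.coprime hD hBA le_rfl) (Or.inl (h.solvable hD hBA)), hBm]
    rw [e1, ← T_map, CfsgLib.Coprime.map_inf_centralizer f
      (hK.trans (T_normalizer (h.normalizes_cG hBA) i))
      (h.coprime hD hK ((T_le _ _ i).trans (cG_le G B))) (Or.inl (h.solvable hD hK))]
  rw [Qp, Qp, Subgroup.map_sup]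
  exact sup_le_sup (key K hK) (key A le_rfl)

omit [Finite X] in
theorem setup_map {Y : Type u} [Group Y] [Finite X] {f : X →* Y} (hfs : Function.Surjective f)
    (h : Setup D A G) (hf : ∀ x ∈ A, f x = 1 → x = 1) : Setup D (A.map f) (G.map f) := by
  refine ⟨⟨⟨⟨?_⟩⟩, ?_⟩, ?_, h.normal.map f hfs, fun hd => h.cop (hd.trans (card_map_dvd G f))⟩
  · rintro ⟨_, a, ha, rfl⟩ ⟨_, b, hb, rfl⟩
    apply Subtype.ext
    show f a * f b = f b * f a
    rw [← map_mul, ← map_mul, show a * b = b * a from
      congrArg Subtype.val (h.elem.1.is_comm.comm ⟨a, ha⟩ ⟨b, hb⟩)]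
  · rintro _ ⟨a, ha, rfl⟩
    rw [← map_pow, h.elem.2 a ha, map_one]
  · refine (Nat.card_congr (Equiv.ofBijective (f.subgroupMap A) ⟨?_, f.subgroupMap_surjective A⟩)).symm.trans h.card
    intro a b e
    have e' : f a = f b := congrArg Subtype.val e
    refine Subtype.ext (inv_mul_eq_one.1 (hf _ (mul_mem (inv_mem a.2) b.2) ?_))
    rw [map_mul, map_inv, e', inv_mul_cancel]

/-- The fixed points in the terms of the series are generated by pieces. -/
theorem genAt {D : Data} (hD : D.Valid) : ∀ i ≤ D.d, ∀ (X : Type u) [Group X] [Finite X]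
    (A G : Subgroup X), Setup D A G → Group.IsSolvable G → GenAt D A G i := by
  intro i
  induction i using Nat.strong_induction_on with
  | _ i ih =>
    intro hid X _ _ A G h hs
    rcases i with _ | i
    · intro K hK
      refine le_sup_of_le_left (le_trans ?_ (piece_le_Q D G (le_refl K)
        ((Nat.pow_le_pow_right hD.prime.pos hD.r_zero).trans hK.2)))
      exact le_inf le_rfl inf_le_right
    induction hm : Nat.card G using Nat.strong_induction_on generalizing X with
    | _ m ihm =>
      intro K hK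
      have := h.normal
      by_cases hG : G = ⊥
      · refine inf_le_left.trans ((T_le _ G (i + 1)).trans ?_)
        rw [hG]
        exact bot_le
      obtain ⟨V, hVn, hVG, hV0, hVab, hVmin, q, hq, hVq⟩ := exists_minimal_normal hs hG
      have := Fact.mk hq
      have hN : (T D.dv G (i + 1)).Normal := T_normal _ G _
      let f := QuotientGroup.mk' V
      have hfs : Function.Surjective f := QuotientGroup.mk'_surjective V
      have hfA : ∀ x ∈ A, f x = 1 → x = 1 := by
        intro x hx hfx
        have hxV : x ∈ V := (QuotientGroup.eq_one_iff x).1 hfx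
        have := CfsgLib.Coprime.inf_eq_bot_of_coprime (h.coprime hD le_rfl hVG)
        exact (mem_bot.1 (this ▸ (⟨hx, hxV⟩ : x ∈ A ⊓ V)))
      have h' := setup_map hfs h hfA
      have hlt : Nat.card ↥(G.map f) < m := by
        subst hm
        refine lt_of_le_of_ne (Nat.le_of_dvd Nat.card_pos (card_map_dvd G f)) fun e => hV0 ?_
        have h1 : Function.Injective (f.subgroupMap G) :=
          ((Nat.bijective_iff_surjective_and_card _).2 ⟨f.subgroupMap_surjective G, e.symm⟩).1
        rw [eq_bot_iff]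
        intro v hv
        have := @h1 ⟨v, hVG hv⟩ 1 (Subtype.ext (by simpa [f] using hv))
        exact congrArg Subtype.val this
      have hs' : Group.IsSolvable ↥(G.map f) :=
        solvable_of_surjective (f.subgroupMap_surjective G)
      have hK' : IsHyp D (A.map f) (K.map f) := by
        refine ⟨map_mono hK.1, hK.2.trans (le_of_eq ?_)⟩
        refine Nat.card_congr (Equiv.ofBijective (f.subgroupMap K) ⟨?_, f.subgroupMap_surjective K⟩)
        intro a b e
        have e' : f a = f b := congrArg Subtype.val e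
        refine Subtype.ext (inv_mul_eq_one.1 (hfA _ (mul_mem (inv_mem (hK.1 a.2)) (hK.1 b.2)) ?_))
        rw [map_mul, map_inv, e', inv_mul_cancel]
      have hq' := ihm _ hlt (X ⧸ V) (A.map f) (G.map f) h' hs' rfl (K.map f) hK'
      intro x hx
      have hfx : f x ∈ T D.dv (G.map f) (i + 1) ⊓ centralizer (K.map f : Set (X ⧸ V)) := by
        rw [← T_map]
        refine ⟨mem_map_of_mem f hx.1, mem_centralizer_iff.2 ?_⟩
        rintro _ ⟨a, ha, rfl⟩
        rw [← map_mul, ← map_mul, mem_centralizer_iff.1 hx.2 a ha]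
      obtain ⟨y, hy, hyx⟩ := Qp_map_le f h hD hK.1 hfA (i + 1) (hq' hfx)
      have hy' := Qp_le h hK.1 (i + 1) hy
      have hz : y⁻¹ * x ∈ V ⊓ T D.dv G (i + 1) ⊓ centralizer (K : Set X) := by
        refine mem_inf.2 ⟨mem_inf.2 ⟨(QuotientGroup.eq_one_iff _).1 ?_,
          mul_mem (inv_mem (mem_inf.1 hy').1) hx.1⟩, mul_mem (inv_mem (mem_inf.1 hy').2) hx.2⟩
        show f (y⁻¹ * x) = 1
        rw [map_mul, map_inv, hyx, inv_mul_cancel]
      have hgoal : y⁻¹ * x ∈ Qp D A G K (i + 1) := by
        rcases hVmin (V ⊓ T D.dv G (i + 1)) inferInstance inf_le_left with e | e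
        · rw [e] at hz
          rw [mem_bot.1 hz.1]
          exact one_mem _
        have hVN : V ≤ T D.dv G (i + 1) := inf_eq_left.1 e
        have hg := ih i (Nat.lt_succ_self i) (by omega) X A G h hs
        have hg' := ih (sig D.dv i) (by have := sig_le D.dv i; omega)
          (by have := sig_le D.dv i; omega) X A G h hs
        have hzV : y⁻¹ * x ∈ V ⊓ centralizer (K : Set X) := ⟨hz.1.1, hz.2⟩
        have : (T D.dv G (sig D.dv i)).Normal := T_normal _ G _
        rcases hVmin ⁅V, T D.dv G (sig D.dv i)⁆ inferInstance (commutator_le_left V _) with e' | e'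
        · exact central_case h hD (by omega) hg hg' hVq hVN e' hK hzV
        · exact noncentral_case h hD (by omega) hg hg' hVab (hVN.trans (T_succ_le _ G i)) e'.ge hK hzV
      have := mul_mem hy hgoal
      rwa [mul_inv_cancel_left] at this

end CfsgLib.CoprimeClass
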