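import Mathlib.Algebra.Lie.Basic
import Mathlib.Algebra.Group.Subgroup.Lattice
import Mathlib.Algebra.Field.ZMod
import Mathlib.Data.List.Perm.Basic
import Mathlib.Data.Fintype.Card
import Mathlib.Data.Fintype.BigOperators

/-!
# Graded Lie rings with homogeneous components acting nilpotently

Kreknin's elimination for gradings by the integers modulo a prime whose zero component acts
nilpotently, and the class bound for gradings by an elementary abelian group.
-/

set_option autoImplicit false
set_option maxHeartbeats 1000000

namespace CfsgLib.CoprimeClass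

open AddSubgroup

universe u

variable {A : Type u} [LieRing A]

/-- The subgroup generated by the brackets of `X` with `M`. -/
def br (X : Set A) (M : AddSubgroup A) : AddSubgroup A :=
  closure {x | ∃ a ∈ X, ∃ m ∈ M, ⁅a, m⁆ = x}

/-- The iterated brackets of `X` with `M`. -/
def brN (X : Set A) (M : AddSubgroup A) : ℕ → AddSubgroup A
  | 0 => M
  | n + 1 => br X (brN X M n)

theorem lie_mem_br {X : Set A} {M : AddSubgroup A} {a m : A} (ha : a ∈ X) (hm : m ∈ M) :
    ⁅a, m⁆ ∈ br X M := subset_closure ⟨a, ha, m, hm, rfl⟩

theorem br_le {X : Set A} {M N : AddSubgroup A} (h : ∀ a ∈ X, ∀ m ∈ M, ⁅a, m⁆ ∈ N) : br X M ≤ N :=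
  (closure_le _).2 fun _ ⟨a, ha, m, hm, e⟩ => e ▸ h a ha m hm

theorem br_mono {X Y : Set A} {M N : AddSubgroup A} (hXY : X ⊆ Y) (hMN : M ≤ N) :
    br X M ≤ br Y N := br_le fun _ ha _ hm => lie_mem_br (hXY ha) (hMN hm)

theorem brN_mono {X Y : Set A} {M N : AddSubgroup A} (hXY : X ⊆ Y) (hMN : M ≤ N) :
    ∀ n, brN X M n ≤ brN Y N n
  | 0 => hMN
  | n + 1 => br_mono hXY (brN_mono hXY hMN n)

theorem brN_add (X : Set A) (M : AddSubgroup A) (a : ℕ) :
    ∀ b, brN X (brN X M a) b = brN X M (a + b)
  | 0 => rfl
  | b + 1 => congrArg (br X) (brN_add X M a b)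

theorem br_iSup_le {ι : Sort*} (X : Set A) (M : ι → AddSubgroup A) :
    br X (⨆ i, M i) ≤ ⨆ i, br X (M i) := by
  refine br_le fun a ha m hm => ?_
  induction hm using AddSubgroup.iSup_induction' with
  | hp i m hm => exact mem_iSup_of_mem i (lie_mem_br ha hm)
  | h1 => rw [lie_zero]; exact zero_mem _
  | hadd _ _ _ _ hx hy => rw [lie_add]; exact add_mem hx hy

theorem brN_iSup_le {ι : Sort*} (X : Set A) (M : ι → AddSubgroup A) :
    ∀ n, brN X (⨆ i, M i) n ≤ ⨆ i, brN X (M i) n
  | 0 => le_rfl
  | n + 1 => (br_mono subset_rfl (brN_iSup_le X M n)).trans (br_iSup_le X _)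

theorem brN_iSup_eq_bot {ι : Sort*} {X : Set A} {M : ι → AddSubgroup A} {n : ℕ}
    (h : ∀ i, brN X (M i) n = ⊥) : brN X (⨆ i, M i) n = ⊥ :=
  eq_bot_iff.2 ((brN_iSup_le X M n).trans (iSup_le fun i => (h i).le))

theorem br_closure_le (X : Set A) (M : AddSubgroup A) : br (closure X : AddSubgroup A) M ≤ br X M := by
  refine br_le fun a ha m hm => ?_
  rw [SetLike.mem_coe] at ha
  induction ha using AddSubgroup.closure_induction with
  | mem x hx => exact lie_mem_br hx hm
  | zero => rw [zero_lie]; exact zero_mem _
  | add _ _ _ _ hx hy => rw [add_lie]; exact add_mem hx hy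
  | neg _ _ hx => rw [neg_lie]; exact neg_mem hx

theorem brN_le_of_subset_closure {X Y : Set A} (h : X ⊆ (closure Y : AddSubgroup A))
    (M : AddSubgroup A) : ∀ n, brN X M n ≤ brN Y M n
  | 0 => le_rfl
  | n + 1 => (br_mono h (brN_le_of_subset_closure h M n)).trans (br_closure_le Y _)

section Series

variable {Γ : Type*} [AddCommGroup Γ]

/-- The components form a graded family. -/
def LieGraded (V : Γ → AddSubgroup A) : Prop :=
  ∀ {i j : Γ} {a b : A}, a ∈ V i → b ∈ V j → ⁅a, b⁆ ∈ V (i + j)

/-- The derived series by components. -/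
def dser (V : Γ → AddSubgroup A) : ℕ → Γ → AddSubgroup A
  | 0, d => V d
  | m + 1, d => closure {x | ∃ i, ∃ a ∈ dser V m i, ∃ b ∈ dser V m (d - i), ⁅a, b⁆ = x}

variable {V : Γ → AddSubgroup A}

theorem lie_mem_dser (m : ℕ) {i j : Γ} {a b : A} (ha : a ∈ dser V m i) (hb : b ∈ dser V m j) :
    ⁅a, b⁆ ∈ dser V (m + 1) (i + j) :=
  subset_closure ⟨i, a, ha, b, by rwa [add_sub_cancel_left], rfl⟩

theorem dser_succ_le (h : LieGraded V) : ∀ (m : ℕ) (d : Γ), dser V (m + 1) d ≤ dser V m d
  | 0, d => (closure_le _).2 fun x ⟨i, a, ha, b, hb, e⟩ => by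
      subst e
      show ⁅a, b⁆ ∈ V d
      have h1 := h (show a ∈ V i from ha) (show b ∈ V (d - i) from hb)
      rwa [add_sub_cancel] at h1
  | m + 1, _ => closure_mono fun _ ⟨i, a, ha, b, hb, e⟩ =>
      ⟨i, a, dser_succ_le h m i ha, b, dser_succ_le h m _ hb, e⟩

theorem dser_le (h : LieGraded V) {m n : ℕ} (hmn : m ≤ n) (d : Γ) : dser V n d ≤ dser V m d := by
  induction hmn with
  | refl => exact le_rfl
  | step _ ih => exact (dser_succ_le h _ d).trans ih

theorem dser_graded (h : LieGraded V) (m : ℕ) : LieGraded (dser V m) :=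
  fun ha hb => dser_succ_le h m _ (lie_mem_dser m ha hb)

theorem dser_dser (m : ℕ) : ∀ (n : ℕ) (d : Γ), dser (dser V m) n d = dser V (m + n) d
  | 0, _ => rfl
  | n + 1, d => by
    show closure _ = closure _
    refine congrArg closure (Set.ext fun x => ?_)
    simp only [Set.mem_ofPred_eq, dser_dser m n]
    rfl

end Series

section Kreknin

variable {p : ℕ}

/-- The elements generated by the zero component and the components of degree larger than `k`. -/
inductive High0 (V : ZMod p → AddSubgroup A) (k : ℕ) : ZMod p → A → Prop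
  | base {d : ZMod p} {a : A} : d = 0 ∨ k < d.val → a ∈ V d → High0 V k d a
  | zero (d : ZMod p) : High0 V k d 0
  | add {d : ZMod p} {a b : A} : High0 V k d a → High0 V k d b → High0 V k d (a + b)
  | neg {d : ZMod p} {a : A} : High0 V k d a → High0 V k d (-a)
  | lie {i j : ZMod p} {a b : A} : High0 V k i a → High0 V k j b → High0 V k (i + j) ⁅a, b⁆

/-- The subgroup of the elements of a degree generated by the higher components. -/
def highSub (V : ZMod p → AddSubgroup A) (k : ℕ) (d : ZMod p) : AddSubgroup A where
  carrier := {a | High0 V k d a}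
  zero_mem' := High0.zero d
  add_mem' := High0.add
  neg_mem' := High0.neg

variable {V : ZMod p → AddSubgroup A}

theorem High0.mem (h : LieGraded V) {k : ℕ} {d : ZMod p} {a : A} (ha : High0 V k d a) : a ∈ V d := by
  induction ha with
  | base _ ha => exact ha
  | zero d => exact zero_mem _
  | add _ _ ha hb => exact add_mem ha hb
  | neg _ ha => exact neg_mem ha
  | lie _ _ ha hb => exact h ha hb

/-- The number of derived steps for the elimination. -/
def elimLen (n : ℕ) : ℕ → ℕ
  | 0 => 0
  | k + 1 => n * (elimLen n k + 1) + elimLen n k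

variable [hp : Fact p.Prime]

theorem high_of_dser (n : ℕ) : ∀ (k : ℕ), k < p → ∀ {V : ZMod p → AddSubgroup A}, LieGraded V →
    (∀ i, brN (V 0 : Set A) (V i) n = ⊥) → ∀ (d : ZMod p), ∀ a ∈ dser V (elimLen n k) d,
      High0 V k d a := by
  intro k
  induction k with
  | zero =>
    intro _ V _ _ d a ha
    refine High0.base ?_ ha
    by_cases hd : d = 0
    · exact Or.inl hd
    · exact Or.inr (Nat.pos_of_ne_zero fun e => hd ((ZMod.val_eq_zero d).1 e))
  | succ k ih =>
    intro hk V h hz d a ha
    set f := elimLen n k with hf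
    set i : ZMod p := ((k + 1 : ℕ) : ZMod p) with hi
    have hiv : i.val = k + 1 := ZMod.val_cast_of_lt hk
    let T := highSub V (k + 1) i
    -- one round of the elimination
    have hround : ∀ j, dser V (j + (f + 1)) i ≤ T ⊔ br (V 0 : Set A) (dser V j i) := by
      intro j
      rw [← dser_dser]
      set K := dser V j with hK
      have hKV : ∀ d, K d ≤ V d := fun d => dser_le h (Nat.zero_le j) d
      have hKg : LieGraded K := dser_graded h j
      have hKz : ∀ d, brN (K 0 : Set A) (K d) n = ⊥ := fun d =>
        eq_bot_iff.2 ((brN_mono (hKV 0) (hKV d) n).trans (hz d).le)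
      refine (closure_le _).2 ?_
      rintro x ⟨s, u, hu, v, hv, rfl⟩
      have hu' := ih (by omega) hKg hKz s u hu
      have hv' : v ∈ K (i - s) := dser_le hKg (Nat.zero_le _) _ hv
      show ⁅u, v⁆ ∈ T ⊔ br (V 0 : Set A) (K i)
      clear hu hv
      induction hu' generalizing v with
      | base hs hu =>
        rename_i s u
        rcases hs with hs | hs
        · subst hs
          rw [sub_zero] at hv'
          exact mem_sup_right (lie_mem_br (hKV 0 hu) hv')
        · by_cases hsi : s = i
          · subst hsi
            rw [sub_self] at hv'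
            rw [← lie_skew]
            exact mem_sup_right (neg_mem (lie_mem_br (hKV 0 hv') hu))
          · have hsv : k + 1 < s.val := by
              rcases Nat.lt_or_ge (k + 1) s.val with hlt | hge
              · exact hlt
              · exact absurd (ZMod.val_injective p (by omega : s.val = i.val)) hsi
            have hv2 : k + 1 < (i - s).val := by
              have hs0 : s ≠ 0 := fun e => by rw [e, ZMod.val_zero] at hsv; omega
              have := ZMod.val_lt s
              have hns : (-s).val = p - s.val := by
                haveI : NeZero s := ⟨hs0⟩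
                exact ZMod.val_neg_of_ne_zero s
              rw [sub_eq_add_neg, ZMod.val_add, hiv, hns, Nat.mod_eq_of_lt (by omega)]
              omega
            have := (High0.base (k := k + 1) (Or.inr hsv) (hKV s hu)).lie
              (High0.base (k := k + 1) (Or.inr hv2) (hKV _ hv'))
            rw [add_sub_cancel] at this
            exact mem_sup_left this
      | zero d => rw [zero_lie]; exact zero_mem _
      | add _ _ ha hb => rw [add_lie]; exact add_mem (ha v hv') (hb v hv')
      | neg _ ha => rw [neg_lie]; exact neg_mem (ha v hv')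
      | lie h1 h2 ha hb =>
        rename_i s t a b
        rw [lie_lie]
        refine sub_mem (ha _ ?_) (hb _ ?_)
        · convert hKg (h2.mem hKg) hv' using 2
          abel
        · convert hKg (h1.mem hKg) hv' using 2
          abel
    -- all rounds
    have hall : ∀ t, dser V (t * (f + 1)) i ≤ T ⊔ brN (V 0 : Set A) (V i) t := by
      intro t
      induction t with
      | zero => rw [Nat.zero_mul]; exact le_sup_right
      | succ t iht =>
        rw [Nat.succ_mul]
        refine (hround _).trans (sup_le le_sup_left (br_le fun x hx y hy => ?_))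
        obtain ⟨y1, hy1, y2, hy2, rfl⟩ := mem_sup.1 (iht hy)
        rw [lie_add]
        refine add_mem (mem_sup_left ?_) (mem_sup_right (lie_mem_br hx hy2))
        have := (High0.base (k := k + 1) (Or.inl rfl) hx).lie (show High0 V (k + 1) i y1 from hy1)
        rw [zero_add] at this
        exact this
    have hm : dser V (n * (f + 1)) i ≤ T := (hall n).trans (sup_le le_rfl (by rw [hz i]; exact bot_le))
    rw [show elimLen n (k + 1) = n * (f + 1) + f from rfl, ← dser_dser] at ha
    set V' := dser V (n * (f + 1))
    have hV' : ∀ d, V' d ≤ V d := fun d => dser_le h (Nat.zero_le _) d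
    have h' := ih (by omega) (dser_graded h _)
      (fun d => eq_bot_iff.2 ((brN_mono (hV' 0) (hV' d) n).trans (hz d).le)) d a ha
    clear ha
    induction h' with
    | base hd ha =>
      rename_i d a
      rcases hd with hd | hd
      · exact High0.base (Or.inl hd) (hV' d ha)
      rcases Nat.lt_or_ge (k + 1) d.val with hlt | hge
      · exact High0.base (Or.inr hlt) (hV' d ha)
      · have hdi : d = i := ZMod.val_injective p (by omega)
        subst hdi
        exact hm ha
    | zero d => exact High0.zero d
    | add _ _ ha hb => exact ha.add hb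
    | neg _ ha => exact ha.neg
    | lie _ _ ha hb => exact ha.lie hb

/-- The derived length of a graded Lie ring whose zero component acts nilpotently. -/
theorem dser_eq_bot (h : LieGraded V) {n : ℕ} (hz : ∀ i, brN (V 0 : Set A) (V i) n = ⊥)
    (d : ZMod p) : dser V (elimLen n (p - 1) + n) d = ⊥ := by
  set F := elimLen n (p - 1)
  have hne : ∀ d : ZMod p, d ≠ 0 → ∀ a ∈ dser V F d, a = 0 := by
    intro d hd a ha
    have h1 := high_of_dser n (p - 1) (Nat.sub_lt hp.out.pos one_pos) h hz d a ha
    clear ha
    induction h1 with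
    | base hd' hmem =>
      rename_i d a
      rcases hd' with hd' | hd'
      · exact absurd hd' hd
      · have := ZMod.val_lt d; omega
    | zero d => rfl
    | add _ _ ha hb => rw [ha hd, hb hd, add_zero]
    | neg _ ha => rw [ha hd, neg_zero]
    | lie hh1 hh2 ha hb =>
      rename_i i j a b
      by_cases hi : i = 0
      · subst hi; rw [zero_add] at hd; rw [hb hd, lie_zero]
      · rw [ha hi, zero_lie]
  have hneT : ∀ t, ∀ d : ZMod p, d ≠ 0 → ∀ a ∈ dser V (F + t) d, a = 0 := fun t d hd a ha =>
    hne d hd a (dser_le h (Nat.le_add_right F t) d ha)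
  have h0 : ∀ t, dser V (F + t) 0 ≤ brN (V 0 : Set A) (V 0) t := by
    intro t
    induction t with
    | zero => exact dser_le h (Nat.zero_le _) 0
    | succ t iht =>
      refine (closure_le _).2 ?_
      rintro x ⟨s, u, hu, v, hv, rfl⟩
      by_cases hs : s = 0
      · subst hs
        rw [sub_zero] at hv
        exact lie_mem_br (dser_le h (Nat.zero_le _) 0 hu) (iht hv)
      · rw [hneT t s hs u hu, zero_lie]; exact zero_mem _
  by_cases hd : d = 0
  · subst hd
    exact eq_bot_iff.2 ((h0 n).trans (hz 0).le)
  · exact (AddSubgroup.eq_bot_iff_forall _).2 (hneT n d hd)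

end Kreknin

section Soluble

variable {Γ : Type*}

/-- The left multiplication by a list of elements. -/
def chainBr (l : List (Γ × A)) (a : A) : A := l.foldr (fun y b => ⁅y.2, b⁆) a

theorem chainBr_append (l₁ l₂ : List (Γ × A)) (a : A) :
    chainBr (l₁ ++ l₂) a = chainBr l₁ (chainBr l₂ a) := by
  rw [chainBr, List.foldr_append]; rfl

theorem chainBr_cons (y : Γ × A) (l : List (Γ × A)) (a : A) :
    chainBr (y :: l) a = ⁅y.2, chainBr l a⁆ := rfl

theorem chainBr_zero (l : List (Γ × A)) : chainBr l (0 : A) = 0 := by
  induction l with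
  | nil => rfl
  | cons y l ih => rw [chainBr_cons, ih, lie_zero]

theorem chainBr_add (l : List (Γ × A)) (a b : A) :
    chainBr l (a + b) = chainBr l a + chainBr l b := by
  induction l with
  | nil => rfl
  | cons y l ih => rw [chainBr_cons, chainBr_cons, chainBr_cons, ih, lie_add]

theorem chainBr_neg (l : List (Γ × A)) (a : A) : chainBr l (-a) = -chainBr l a := by
  induction l with
  | nil => rfl
  | cons y l ih => rw [chainBr_cons, chainBr_cons, ih, lie_neg]

variable [AddCommGroup Γ] [Fintype Γ]

/-- A soluble graded ring spanned by components acting nilpotently acts nilpotently. -/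
theorem brN_eq_bot_of_soluble {M : AddSubgroup A} {E : ℕ} :
    ∀ (D : ℕ) {V : Γ → AddSubgroup A}, LieGraded V →
    (∀ γ, ∀ a ∈ V γ, ∀ m ∈ M, ⁅a, m⁆ ∈ M) → (∀ γ, brN (V γ : Set A) M E = ⊥) →
    (∀ γ, dser V D γ = ⊥) → brN (⋃ γ, (V γ : Set A)) M ((Fintype.card Γ * E) ^ D) = ⊥ := by
  classical
  intro D
  induction D with
  | zero =>
    intro V _ _ _ hD
    rw [pow_zero, eq_bot_iff]
    refine br_le fun a ha m _ => ?_
    obtain ⟨γ, hγ⟩ := Set.mem_iUnion.1 ha
    rw [SetLike.mem_coe, show V γ = ⊥ from hD γ, AddSubgroup.mem_bot] at hγ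
    rw [hγ, zero_lie]
    exact zero_mem _
  | succ D ih =>
    intro V h hM hE hD
    set R := Fintype.card Γ * E with hR
    set W := dser V 1 with hW
    have hWV : ∀ γ, W γ ≤ V γ := fun γ => dser_le h (Nat.zero_le 1) γ
    have hbot : brN (⋃ γ, (W γ : Set A)) M (R ^ D) = ⊥ := ih (dser_graded h 1)
      (fun γ a ha => hM γ a (hWV γ ha))
      (fun γ => eq_bot_iff.2 ((brN_mono (hWV γ) le_rfl E).trans (hE γ).le))
      (fun γ => by rw [hW, dser_dser, add_comm]; exact hD γ)
    set N := brN (⋃ γ, (W γ : Set A)) M with hN
    have hinv : ∀ j, ∀ γ, ∀ a ∈ V γ, ∀ m ∈ N j, ⁅a, m⁆ ∈ N j := by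
      intro j
      induction j with
      | zero => exact hM
      | succ j ihj =>
        intro γ a ha m hm
        induction hm using AddSubgroup.closure_induction with
        | mem x hx =>
          obtain ⟨w, hw, m, hm, rfl⟩ := hx
          obtain ⟨δ, hwδ⟩ := Set.mem_iUnion.1 hw
          rw [leibniz_lie]
          refine add_mem (lie_mem_br (Set.mem_iUnion.2 ⟨γ + δ, ?_⟩) hm) (lie_mem_br hw (ihj γ a ha m hm))
          exact lie_mem_dser 0 ha (hWV δ hwδ)
        | zero => rw [lie_zero]; exact zero_mem _
        | add _ _ _ _ hx hy => rw [lie_add]; exact add_mem hx hy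
        | neg _ _ hx => rw [lie_neg]; exact neg_mem hx
    have hNM : ∀ j, N j ≤ M := by
      intro j
      induction j with
      | zero => exact le_rfl
      | succ j ihj =>
        refine br_le fun a ha m hm => ?_
        obtain ⟨γ, hγ⟩ := Set.mem_iUnion.1 ha
        exact hM γ a (hWV γ hγ) m (ihj hm)
    -- long chains go down one step
    have hlong : ∀ j, ∀ l : List (Γ × A), (∀ y ∈ l, y.2 ∈ V y.1) → R ≤ l.length →
        ∀ m ∈ N j, chainBr l m ∈ N (j + 1) := by
      intro j
      have hchain : ∀ i, ∀ l : List (Γ × A), (∀ y ∈ l, y.2 ∈ V y.1) → ∀ m ∈ N i, chainBr l m ∈ N i := by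
        intro i l hl m hm
        induction l with
        | nil => exact hm
        | cons y l ihl =>
          exact hinv i y.1 _ (hl y List.mem_cons_self) _ (ihl fun z hz => hl z (List.mem_cons_of_mem _ hz))
      have hperm : ∀ {l l' : List (Γ × A)}, List.Perm l l' → (∀ y ∈ l, y.2 ∈ V y.1) →
          ∀ m ∈ N j, chainBr l m - chainBr l' m ∈ N (j + 1) := by
        intro l l' hll
        induction hll with
        | nil => intro _ m _; rw [sub_self]; exact zero_mem _
        | cons y _ ihp =>
          intro hl m hm
          rw [chainBr_cons, chainBr_cons, ← lie_sub]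
          exact hinv (j + 1) _ _ (hl y List.mem_cons_self) _
            (ihp (fun z hz => hl z (List.mem_cons_of_mem _ hz)) m hm)
        | swap y z l =>
          intro hl m hm
          rw [chainBr_cons, chainBr_cons, chainBr_cons, chainBr_cons, ← lie_lie]
          have hy : y.2 ∈ V y.1 := hl y (List.mem_cons_of_mem _ List.mem_cons_self)
          have hz : z.2 ∈ V z.1 := hl z List.mem_cons_self
          exact lie_mem_br (Set.mem_iUnion.2 ⟨_, lie_mem_dser 0 hz hy⟩) (hchain j l
            (fun w hw => hl w (List.mem_cons_of_mem _ (List.mem_cons_of_mem _ hw))) m hm)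
        | trans h1 _ ih1 ih2 =>
          intro hl m hm
          rw [← sub_add_sub_cancel]
          exact add_mem (ih1 hl m hm) (ih2 (fun z hz => hl z (h1.mem_iff.2 hz)) m hm)
      intro l hl hlen m hm
      obtain ⟨γ, hγ⟩ : ∃ γ, E ≤ (l.filter fun y => decide (y.1 = γ)).length := by
        by_contra hcon
        push Not at hcon
        have hlen' : ∀ l : List (Γ × A),
            l.length = ∑ γ, (l.filter fun y => decide (y.1 = γ)).length := by
          intro l
          induction l with
          | nil => simp
          | cons y l ihl =>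
            have hy : ∀ γ, ((y :: l).filter fun y => decide (y.1 = γ)).length =
                (l.filter fun y => decide (y.1 = γ)).length + if y.1 = γ then 1 else 0 := by
              intro γ
              by_cases hy : y.1 = γ <;> simp [hy]
            rw [Finset.sum_congr rfl fun γ _ => hy γ, Finset.sum_add_distrib, ← ihl,
              Finset.sum_ite_eq]
            simp
        have hlt : ∑ γ, (l.filter fun y => decide (y.1 = γ)).length < ∑ _γ : Γ, E :=
          Finset.sum_lt_sum_of_nonempty Finset.univ_nonempty fun γ _ => hcon γ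
        rw [← hlen', Finset.sum_const, Finset.card_univ, smul_eq_mul] at hlt
        omega
      set l₁ := l.filter fun y => !decide (y.1 = γ)
      set l₂ := l.filter fun y => decide (y.1 = γ)
      have hp' : List.Perm l (l₁ ++ l₂) :=
        ((List.filter_append_perm (fun y => decide (y.1 = γ)) l).symm.trans List.perm_append_comm)
      have hl₂ : ∀ l : List (Γ × A), (∀ y ∈ l, y.2 ∈ V γ) → chainBr l m ∈ brN (V γ : Set A) M l.length := by
        intro l hl
        induction l with
        | nil => exact hNM j hm
        | cons y l ihl =>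
          exact lie_mem_br (hl y List.mem_cons_self) (ihl fun z hz => hl z (List.mem_cons_of_mem _ hz))
      have h2 : chainBr l₂ m = 0 := by
        have h3 := hl₂ l₂ fun y hy => by
          obtain ⟨hy1, hy2⟩ := List.mem_filter.1 hy
          rw [decide_eq_true_iff] at hy2
          exact hy2 ▸ hl y hy1
        obtain ⟨e, he⟩ := Nat.exists_eq_add_of_le hγ
        rw [he, ← brN_add] at h3
        rw [hE γ] at h3
        have hzero : ∀ e, brN (V γ : Set A) (⊥ : AddSubgroup A) e = ⊥ := by
          intro e
          induction e with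
          | zero => rfl
          | succ e ihe =>
            refine eq_bot_iff.2 (br_le fun a _ m hm => ?_)
            rw [ihe, AddSubgroup.mem_bot] at hm
            rw [hm, lie_zero]
            exact zero_mem _
        rwa [hzero, AddSubgroup.mem_bot] at h3
      have h4 := hperm hp' hl m hm
      rwa [chainBr_append, h2, chainBr_zero, sub_zero] at h4
    have hstep : ∀ j, brN (⋃ γ, (V γ : Set A)) (N j) R ≤ N (j + 1) := by
      intro j
      have hbr : ∀ t, ∀ m ∈ brN (⋃ γ, (V γ : Set A)) (N j) t, ∀ l : List (Γ × A),
          (∀ y ∈ l, y.2 ∈ V y.1) → R ≤ l.length + t → chainBr l m ∈ N (j + 1) := by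
        intro t
        induction t with
        | zero => exact fun m hm l hl hlen => hlong j l hl (by omega) m hm
        | succ t iht =>
          intro m hm l hl hlen
          induction hm using AddSubgroup.closure_induction with
          | mem x hx =>
            obtain ⟨a, ha, m, hm, rfl⟩ := hx
            obtain ⟨γ, hγ⟩ := Set.mem_iUnion.1 ha
            have := iht m hm (l ++ [(γ, a)]) (fun y hy => by
              rcases List.mem_append.1 hy with hy | hy
              · exact hl y hy
              · rw [List.mem_singleton] at hy; rw [hy]; exact hγ)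
              (by rw [List.length_append, List.length_singleton]; omega)
            rwa [chainBr_append] at this
          | zero => rw [chainBr_zero]; exact zero_mem _
          | add _ _ _ _ hx hy => rw [chainBr_add]; exact add_mem hx hy
          | neg _ _ hx => rw [chainBr_neg]; exact neg_mem hx
      exact fun m hm => hbr R m hm [] (by simp) (by simp)
    have hmul : ∀ j, brN (⋃ γ, (V γ : Set A)) M (j * R) ≤ N j := by
      intro j
      induction j with
      | zero => rw [Nat.zero_mul]; exact le_rfl
      | succ j ihj =>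
        rw [Nat.succ_mul, ← brN_add]
        exact (brN_mono subset_rfl ihj R).trans (hstep j)
    rw [pow_succ]
    exact eq_bot_iff.2 ((hmul _).trans hbot.le)

end Soluble

section Elementary

variable {p : ℕ} [hp : Fact p.Prime] {k : ℕ}

/-- The bound on the class. -/
def gradedBound (p k E : ℕ) : ℕ → ℕ
  | 0 => E
  | r + 1 => (p ^ k * E) ^ (elimLen (gradedBound p k E r) (p - 1) + gradedBound p k E r)

/-- The characters supported on the first `r` coordinates. -/
def suppLT (p k r : ℕ) : Set (Fin k → ZMod p) := {γ | ∀ i : Fin k, r ≤ i.val → γ i = 0}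

/-- A Lie ring graded by an elementary abelian group in which each component acts nilpotently. -/
theorem brN_iUnion_eq_bot {V : (Fin k → ZMod p) → AddSubgroup A} (h : LieGraded V) {E : ℕ}
    (hE : ∀ γ δ, brN (V γ : Set A) (V δ) E = ⊥) :
    brN (⋃ γ, (V γ : Set A)) (⨆ γ, V γ) (gradedBound p k E k) = ⊥ := by
  classical
  set M := ⨆ γ, V γ with hMdef
  have hM : ∀ γ, ∀ a ∈ V γ, ∀ m ∈ M, ⁅a, m⁆ ∈ M := by
    intro γ a ha m hm
    induction hm using AddSubgroup.iSup_induction' with
    | hp δ m hm => exact mem_iSup_of_mem (γ + δ) (h ha hm)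
    | h1 => rw [lie_zero]; exact zero_mem _
    | hadd _ _ _ _ hx hy => rw [lie_add]; exact add_mem hx hy
  have key : ∀ r, r ≤ k → brN (⋃ γ ∈ suppLT p k r, (V γ : Set A)) M (gradedBound p k E r) = ⊥ := by
    intro r
    induction r with
    | zero =>
      intro _
      refine eq_bot_iff.2 ((brN_mono ?_ le_rfl E).trans (brN_iSup_eq_bot (hE 0)).le)
      refine Set.iUnion₂_subset fun γ hγ => ?_
      have : γ = 0 := funext fun i => hγ i (Nat.zero_le _)
      rw [this]
    | succ r ih =>
      intro hr
      obtain ⟨G, hG⟩ : ∃ G, G = gradedBound p k E r := ⟨_, rfl⟩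
      have hih := ih (by omega)
      rw [← hG] at hih
      let ri : Fin k := ⟨r, by omega⟩
      let W : ZMod p → AddSubgroup A := fun d =>
        closure (⋃ γ ∈ {γ | γ ∈ suppLT p k (r + 1) ∧ γ ri = d}, (V γ : Set A))
      have hW : LieGraded W := by
        intro i j a b ha hb
        induction ha using AddSubgroup.closure_induction with
        | mem x hx =>
          obtain ⟨γ, ⟨hγ, hγr⟩, hxγ⟩ := Set.mem_iUnion₂.1 hx
          induction hb using AddSubgroup.closure_induction with
          | mem y hy =>
            obtain ⟨δ, ⟨hδ, hδr⟩, hyδ⟩ := Set.mem_iUnion₂.1 hy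
            refine subset_closure (Set.mem_iUnion₂.2 ⟨γ + δ, ⟨fun l hl => ?_, ?_⟩, h hxγ hyδ⟩)
            · rw [Pi.add_apply, hγ l hl, hδ l hl, add_zero]
            · rw [Pi.add_apply, hγr, hδr]
          | zero => rw [lie_zero]; exact zero_mem _
          | add _ _ _ _ hx hy => rw [lie_add]; exact add_mem hx hy
          | neg _ _ hx => rw [lie_neg]; exact neg_mem hx
        | zero => rw [zero_lie]; exact zero_mem _
        | add _ _ _ _ hx hy => rw [add_lie]; exact add_mem hx hy
        | neg _ _ hx => rw [neg_lie]; exact neg_mem hx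
      have hWM : ∀ d, W d ≤ M := fun d => (closure_le _).2 (Set.iUnion₂_subset fun γ _ =>
        (le_iSup V γ : V γ ≤ M))
      have hz : ∀ i, brN (W 0 : Set A) (W i) G = ⊥ := by
        intro i
        refine eq_bot_iff.2 ((brN_mono subset_rfl (hWM i) G).trans ?_)
        refine (brN_le_of_subset_closure (Y := ⋃ γ ∈ suppLT p k r, (V γ : Set A)) ?_ M G).trans hih.le
        refine (closure_le _).2 (subset_trans ?_ subset_closure)
        refine Set.iUnion₂_subset fun γ hγ => ?_
        refine Set.subset_biUnion_of_mem (u := fun γ => (V γ : Set A)) (fun l hl => ?_)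
        rcases Nat.eq_or_lt_of_le hl with hl | hl
        · exact (Fin.ext hl : ri = l) ▸ hγ.2
        · exact hγ.1 l hl
      obtain ⟨D, hD⟩ : ∃ D, D = elimLen G (p - 1) + G := ⟨_, rfl⟩
      have hbound : gradedBound p k E (r + 1) = (p ^ k * E) ^ D := by rw [hD, hG, gradedBound]
      rw [hbound]
      clear hbound
      let V' : (Fin k → ZMod p) → AddSubgroup A := fun γ => if γ ∈ suppLT p k (r + 1) then V γ else ⊥
      have hV'V : ∀ γ, V' γ ≤ V γ := fun γ => by
        simp only [V']
        split
        · exact le_rfl
        · exact bot_le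
      have hV' : LieGraded V' := by
        intro γ δ a b ha hb
        simp only [V'] at ha hb ⊢
        split at ha
        · rename_i hγ
          split at hb
          · rename_i hδ
            rw [if_pos (show γ + δ ∈ suppLT p k (r + 1) from fun l hl => by
              rw [Pi.add_apply, hγ l hl, hδ l hl, add_zero])]
            exact h ha hb
          · rw [AddSubgroup.mem_bot.1 hb, lie_zero]; exact zero_mem _
        · rw [AddSubgroup.mem_bot.1 ha, zero_lie]; exact zero_mem _
      have hsub : ∀ m γ, dser V' m γ ≤ dser W m (γ ri) := by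
        intro m
        induction m with
        | zero =>
          intro γ a ha
          change a ∈ V' γ at ha
          show a ∈ W (γ ri)
          simp only [V'] at ha
          split at ha
          · rename_i hγ
            exact subset_closure (Set.mem_iUnion₂.2 ⟨γ, ⟨hγ, rfl⟩, ha⟩)
          · rw [AddSubgroup.mem_bot.1 ha]; exact zero_mem _
        | succ m ihm =>
          intro γ
          refine (closure_le _).2 ?_
          rintro x ⟨δ, a, ha, b, hb, rfl⟩
          exact subset_closure ⟨δ ri, a, ihm δ ha, b, ihm (γ - δ) hb, rfl⟩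
      clear_value W
      have hDbot : ∀ d : ZMod p, dser W D d = ⊥ := fun d => by
        rw [hD]
        exact dser_eq_bot hW hz d
      have hbot : ∀ γ, dser V' D γ = ⊥ := fun γ =>
        eq_bot_iff.2 ((hsub D γ).trans (hDbot (γ ri)).le)
      have := brN_eq_bot_of_soluble D hV' (fun γ a ha => hM γ a (hV'V γ ha))
        (fun γ => eq_bot_iff.2 ((brN_mono (hV'V γ) le_rfl E).trans (brN_iSup_eq_bot (hE γ)).le)) hbot
      rw [Fintype.card_fun, ZMod.card, Fintype.card_fin] at this
      clear hbot hDbot hsub
      refine eq_bot_iff.2 ((brN_mono ?_ le_rfl _).trans this.le)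
      refine Set.iUnion₂_subset fun γ hγ => subset_trans ?_ (Set.subset_iUnion _ γ)
      simp only [V', if_pos hγ]
      exact subset_rfl
  refine eq_bot_iff.2 ((brN_mono (Set.iUnion_subset fun γ => ?_) le_rfl _).trans (key k le_rfl).le)
  exact Set.subset_biUnion_of_mem (u := fun γ => (V γ : Set A))
    (show γ ∈ suppLT p k k from fun i hi => absurd hi (by omega))

end Elementary

end CfsgLib.CoprimeClass
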