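import Cfsg.Agent.Lib.CoprimeClass.Defs

/-!
# Sources of the fixed points and projection of a layer
-/

set_option autoImplicit false

namespace CfsgLib.CoprimeClass

open Subgroup
open scoped commutatorElement

variable {X : Type*} [Group X] [Finite X] {D : Data} {A G : Subgroup X}

/-- The pieces in the centralizer of `K`, together with those in the centralizer of `A`. -/
def Qp (D : Data) (A G K : Subgroup X) (i : ℕ) : Subgroup X := Q D G K i ⊔ Q D G A i

omit [Finite X] in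
theorem Qp_le (h : Setup D A G) {K : Subgroup X} (hK : K ≤ A) (i : ℕ) :
    Qp D A G K i ≤ T D.dv G i ⊓ centralizer (K : Set X) := by
  have := h
  exact sup_le (Q_le D G K i) ((Q_le D G A i).trans
    (inf_le_inf_left _ (centralizer_le (SetLike.coe_subset_coe.2 hK))))

/-- The statement that the fixed points in the `i`-th term are generated by pieces. -/
def GenAt (D : Data) (A G : Subgroup X) (i : ℕ) : Prop :=
  ∀ K, IsHyp D A K → T D.dv G i ⊓ centralizer (K : Set X) ≤ Qp D A G K i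

/-- An invariant subgroup is generated by its intersections with the joins of pieces. -/
theorem le_iSup_inf_Q (h : Setup D A G) (hD : D.Valid) {i : ℕ} (hgen : GenAt D A G i)
    {R : Subgroup X} (hR : R ≤ T D.dv G i) (hAR : A ≤ normalizer (R : Set X)) :
    R ≤ ⨆ K : {K : Subgroup X // IsHyp D A K}, R ⊓ Q D G K.1 i := by
  have hRG : R ≤ G := hR.trans (T_le _ G i)
  refine (h.le_iSup_cG hD hRG hAR).trans (iSup_le fun K => ?_)
  obtain ⟨K, hK⟩ := K
  set R' := R ⊓ centralizer (K : Set X) with hR'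
  have hAR' : A ≤ normalizer (R' : Set X) :=
    le_normalizer_inf' hAR (le_normalizer_centralizer (h.le_centralizer hK.1))
  have hc1 : R' ⊓ centralizer (A : Set X) ≤ R ⊓ Q D G A i := by
    intro x hx
    refine ⟨hx.1.1, ?_⟩
    have h1 := hgen A (h.isHyp_self hD) ⟨hR hx.1.1, hx.2⟩
    rwa [Qp, sup_idem] at h1
  have hc2 : ⁅R', A⁆ ≤ R ⊓ Q D G K i := by
    refine le_inf ((le_normalizer_iff_commutator_le_left.1 hAR').trans inf_le_left) ?_
    refine commutator_le.2 fun x hx a ha => ?_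
    have hQA : Q D G A i ≤ cG G K :=
      (Q_le_cG D G A i).trans (cG_anti G hK.1)
    obtain ⟨u, hu, c, hc, rfl⟩ := CfsgLib.Comp.exists_mul_of_mem_sup
      (hQA.trans (cG_le_normalizer_Q D G K i)) (hgen K hK ⟨hR hx.1, hx.2⟩)
    have hca : a * c = c * a := mem_centralizer_iff.1 (Q_le D G A i hc).2 a ha
    rw [show ⁅u * c, a⁆ = u * (c * a * c⁻¹) * u⁻¹ * a⁻¹ by
      simp only [commutatorElement_def]; group, ← hca, mul_inv_cancel_right,
      show u * a * u⁻¹ * a⁻¹ = u * (a * u⁻¹ * a⁻¹) by group]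
    exact mul_mem hu ((mem_normalizer_iff.1 (h.normalizes_Q hK.1 i ha) _).1 (inv_mem hu))
  intro x hx
  rw [← CfsgLib.Coprime.commutator_sup_centralizer hAR'
    (h.coprime hD le_rfl (inf_le_left.trans hRG)) (Or.inl (h.solvable hD le_rfl))] at hx
  refine SetLike.le_def.1 (sup_le ?_ ?_) hx
  · exact hc2.trans (le_iSup_of_le ⟨K, hK⟩ le_rfl)
  · exact hc1.trans (le_iSup_of_le ⟨A, h.isHyp_self hD⟩ le_rfl)

theorem commutator_Q_le (hD : D.Valid) (h : Setup D A G) {i : ℕ} (hi : i < D.d)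
    {K₁ K₂ : Subgroup X} (h₁ : K₁ ≤ A) (h₂ : K₂ ≤ A) :
    ⁅Q D G K₁ i, Q D G K₂ (sig D.dv i)⁆ ≤ Q D G (K₁ ⊓ K₂) (i + 1) := by
  have hn : ∀ {K : Subgroup X}, K₁ ⊓ K₂ ≤ K → cG G K ≤ normalizer (Q D G (K₁ ⊓ K₂) (i + 1) : Set X) :=
    fun hK => (cG_anti G hK).trans (cG_le_normalizer_Q D G _ _)
  refine commutator_iSup_le (fun B B' => ?_) (fun B => ?_) fun B' => ?_
  · refine le_trans ?_ (piece_le_Q D G (inf_le_inf B.2.1 B'.2.1)
      (card_inf_ge h hD (B.2.1.trans h₁) (B'.2.1.trans h₂) B.2.2 B'.2.2 (hD.r_succ i hi)))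
    refine le_inf ?_ ?_
    · rw [T_succ]
      exact commutator_mono (inf_le_left.trans (T_mono _ (cG_anti G inf_le_left) i))
        (inf_le_left.trans (T_mono _ (cG_anti G inf_le_right) _))
    · exact (commutator_mono (inf_le_right.trans (centralizer_le (SetLike.coe_subset_coe.2 inf_le_left)))
        (inf_le_right.trans (centralizer_le (SetLike.coe_subset_coe.2 inf_le_right)))).trans
        (commutator_le_self _)
  · exact (inf_le_inf_right _ ((T_le _ _ i).trans (cG_le G B.1))).trans (hn inf_le_left)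
  · exact (inf_le_inf_right _ ((T_le _ _ _).trans (cG_le G B'.1))).trans (hn inf_le_right)

theorem Q_inf_centralizer_le (h : Setup D A G) (hD : D.Valid) {Z K : Subgroup X} (hZ : Z ≤ A)
    (hK : IsHyp D A K) (i : ℕ) : Q D G Z i ⊓ centralizer (K : Set X) ≤ Qp D A G K i := by
  refine (iSup_inf_centralizer_le (G := G)
    (P := fun B : {B : Subgroup X // B ≤ Z ∧ D.p ^ D.r i ≤ Nat.card B} =>
      T D.dv (cG G B.1) i ⊓ centralizer (Z : Set X))
    (hK.1.trans h.le_normalizer) (h.coprime hD hK.1 le_rfl) (h.solvable hD hK.1)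
    (fun B => inf_le_left.trans ((T_le _ _ i).trans (cG_le G B.1)))
    (fun B => hK.1.trans (h.normalizes_piece hZ (B.2.1.trans hZ) i))
    (fun B B' => (inf_le_inf_right _ ((T_le _ _ i).trans (cG_le G B.1))).trans
      (cG_le_normalizer_piece D G B'.2.1 i))).trans (iSup_le fun B => ?_)
  rcases IsHyp.eq_or_eq h hD hK (le_sup_right : K ≤ Z ⊔ K) (sup_le hZ hK.1) with e | e
  · refine le_trans ?_ le_sup_left
    refine le_trans ?_ (piece_le_Q D G (B.2.1.trans (le_sup_left.trans e.le)) B.2.2)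
    exact inf_le_inf_right _ inf_le_left
  · refine le_trans ?_ le_sup_right
    refine le_trans ?_ (piece_le_Q D G (B.2.1.trans hZ) B.2.2)
    intro x hx
    refine ⟨hx.1.1, ?_⟩
    have h1 : Z ⊔ K ≤ centralizer ({x} : Set X) := by
      refine sup_le (fun z hz => ?_) fun z hz => ?_
      · exact mem_centralizer_singleton_iff.2 (mem_centralizer_iff.1 hx.1.2 z hz)
      · exact mem_centralizer_singleton_iff.2 (mem_centralizer_iff.1 hx.2 z hz)
    rw [e] at h1
    exact mem_centralizer_iff.2 fun a ha => mem_centralizer_singleton_iff.1 (h1 ha)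

/-- Projection: the fixed points of a layer generated by joins of pieces. -/
theorem layer_inf_centralizer_le (h : Setup D A G) (hD : D.Valid) {L K₀ : Subgroup X} (hLG : L ≤ G)
    (hK₀ : K₀ ≤ L) (hAL : A ≤ normalizer (L : Set X)) (hAK : A ≤ normalizer (K₀ : Set X))
    (hab : ⁅L, L⁆ ≤ K₀) {i : ℕ}
    (hgen : L ≤ K₀ ⊔ ⨆ Z : {Z : Subgroup X // Z ≤ A}, L ⊓ Q D G Z.1 i)
    {K : Subgroup X} (hK : IsHyp D A K) (hK₀Q : K₀ ⊓ centralizer (K : Set X) ≤ Qp D A G K i) :
    L ⊓ centralizer (K : Set X) ≤ Qp D A G K i := by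
  let P : {Z : Subgroup X // Z ≤ A} → Subgroup X := fun Z => K₀ ⊔ (L ⊓ Q D G Z.1 i)
  have hPL : ∀ Z, P Z ≤ L := fun Z => sup_le hK₀ inf_le_left
  have hLP : ∀ Z, L ≤ normalizer (P Z : Set X) := fun Z =>
    le_normalizer_of_commutator_le ((commutator_mono le_rfl (hPL Z)).trans (hab.trans le_sup_left))
  have hAP : ∀ Z, A ≤ normalizer (P Z : Set X) := fun Z =>
    CfsgLib.Comp.le_normalizer_sup hAK (le_normalizer_inf' hAL (h.normalizes_Q Z.2 i))
  have hcK : (Nat.card K).Coprime (Nat.card G) := h.coprime hD hK.1 le_rfl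
  have hLeq : L ≤ ⨆ Z, P Z := hgen.trans (sup_le
    (le_iSup_of_le (f := P) ⟨A, le_rfl⟩ le_sup_left)
    (iSup_le fun Z => le_iSup_of_le (f := P) Z le_sup_right))
  refine ((inf_le_inf_right _ hLeq).trans (iSup_inf_centralizer_le (G := G)
    (hK.1.trans h.le_normalizer) hcK (h.solvable hD hK.1) (fun Z => (hPL Z).trans hLG)
    (fun Z => hK.1.trans (hAP Z)) fun Z Z' => (hPL Z).trans (hLP Z'))).trans (iSup_le fun Z => ?_)
  intro x hx
  have hn : L ⊓ Q D G Z.1 i ≤ normalizer (K₀ : Set X) := by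
    refine inf_le_left.trans (le_normalizer_of_commutator_le ?_)
    exact (commutator_mono le_rfl hK₀).trans hab
  obtain ⟨u, hu, v, hv, rfl⟩ := CfsgLib.Comp.exists_mul_of_mem_sup hn hx.1
  obtain ⟨u', hu', v', hv', he⟩ := CfsgLib.Coprime.exists_mul_centralizer (hK.1.trans h.le_normalizer)
    hcK (Or.inl (h.solvable hD hK.1)) (hK₀.trans hLG) (inf_le_left.trans hLG) (hK.1.trans hAK)
    (hK.1.trans (le_normalizer_inf' hAL (h.normalizes_Q Z.2 i))) hu hv hx.2
  rw [← he]
  exact mul_mem (hK₀Q hu') (Q_inf_centralizer_le h hD Z.2 hK i ⟨hv'.1.2, hv'.2⟩)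

end CfsgLib.CoprimeClass
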