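import Cfsg.Agent.Lib.CoprimeClass.Class
import Mathlib.GroupTheory.SemidirectProduct

/-!
# An elementary abelian group of automorphisms
-/

set_option autoImplicit false

namespace CfsgLib.CoprimeClass

open Subgroup

universe u

variable {G : Type u} [Group G]

theorem map_top_derivedSeries (i : ℕ) : derivedSeries G i = T true (⊤ : Subgroup G) i := by
  induction i with
  | zero => rfl
  | succ i ih => rw [derivedSeries_succ, ih]; rfl

theorem lowerCentralSeries_eq_T (H : Subgroup G) : ∀ i, H.lowerCentralSeries i = T false H i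
  | 0 => rfl
  | i + 1 => by
    show ⁅H.lowerCentralSeries i, H⁆ = _
    rw [lowerCentralSeries_eq_T H i]
    rfl

/-- The class bound for a group with an elementary abelian group of automorphisms. -/
theorem class_bound_aut [Finite G] {D : Data} (hD : D.Valid) (hk : 3 ≤ D.k) (hr : 2 ≤ D.r D.d)
    (hcop : (Nat.card G).Coprime D.p) (A : Subgroup (MulAut G))
    (hA : Cfsg.IsElementaryAbelian D.p A) (hcard : Nat.card A = D.p ^ D.k) {c : ℕ}
    (hc : ∀ a ∈ A, a ≠ 1 →
      (T D.dv (⊤ : Subgroup ↥((a : MulAut G).toMonoidHom.eqLocus (MonoidHom.id G))) D.d).lowerCentralSeries c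
        = ⊥) :
    (T D.dv (⊤ : Subgroup G) D.d).lowerCentralSeries (classBound D c) = ⊥ := by
  classical
  have : Finite (G ⋊[A.subtype] A) := Finite.of_equiv _ SemidirectProduct.equivProd.symm
  let i : G →* G ⋊[A.subtype] A := SemidirectProduct.inl
  have hi : Function.Injective i := SemidirectProduct.inl_injective
  let j : A →* G ⋊[A.subtype] A := SemidirectProduct.inr
  have hj : Function.Injective j := SemidirectProduct.inr_injective
  have hS : Setup D j.range i.range := by
    refine ⟨⟨⟨⟨?_⟩⟩, ?_⟩, ?_, ?_, ?_⟩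
    · rintro ⟨_, a, rfl⟩ ⟨_, b, rfl⟩
      apply Subtype.ext
      show j a * j b = j b * j a
      rw [← map_mul, ← map_mul, hA.1.is_comm.comm a b]
    · rintro _ ⟨a, rfl⟩
      rw [← map_pow, show a ^ D.p = 1 from Subtype.ext (by simpa using hA.2 a a.2), map_one]
    · rw [← Nat.card_congr (MonoidHom.ofInjective hj).toEquiv, hcard]
    · show (SemidirectProduct.inl : G →* G ⋊[A.subtype] A).range.Normal
      rw [SemidirectProduct.range_inl_eq_ker_rightHom]
      infer_instance
    · rw [← Nat.card_congr (MonoidHom.ofInjective hi).toEquiv]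
      exact hD.prime.coprime_iff_not_dvd.1 hcop.symm
  have hcG : ∀ a : A,
      cG i.range (zpowers (j a)) = ((a : MulAut G).toMonoidHom.eqLocus (MonoidHom.id G)).map i := by
    intro a
    ext x
    rw [cG, CfsgLib.Comp.centralizer_zpowers, mem_inf, mem_centralizer_singleton_iff]
    constructor
    · rintro ⟨⟨g, rfl⟩, hx⟩
      refine ⟨g, ?_, rfl⟩
      show (a : MulAut G) g = g
      apply hi
      show (SemidirectProduct.inl ((A.subtype a) g) : G ⋊[A.subtype] A) = SemidirectProduct.inl g
      rw [SemidirectProduct.inl_aut, map_inv]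
      exact mul_inv_eq_of_eq_mul hx.symm
    · rintro ⟨g, hg, rfl⟩
      refine ⟨⟨g, rfl⟩, ?_⟩
      have hg' : (A.subtype a) g = g := hg
      have h1 := SemidirectProduct.inl_aut (φ := A.subtype) a g
      rw [hg', map_inv] at h1
      exact eq_mul_inv_iff_mul_eq.1 h1
  have hfc : FixClass D c j.range i.range := by
    rintro _ ⟨a, rfl⟩ ha1
    have ha : (a : MulAut G) ≠ 1 := fun e => ha1 (by
      rw [show a = 1 from Subtype.ext e, map_one])
    rw [hcG a]
    set C := (a : MulAut G).toMonoidHom.eqLocus (MonoidHom.id G)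
    have e : (T D.dv (⊤ : Subgroup C) D.d).map C.subtype = T D.dv C D.d := by
      rw [T_map, ← MonoidHom.range_eq_map, range_subtype]
    rw [← T_map, ← e, Subgroup.map_map, ← map_lowerCentralSeries, hc a a.2 ha, Subgroup.map_bot]
  have h := class_bound hS hD hk hr hfc
  have e : (T D.dv (⊤ : Subgroup G) D.d).map i = T D.dv i.range D.d := by
    rw [T_map, ← MonoidHom.range_eq_map]
  rw [← e, ← map_lowerCentralSeries] at h
  exact map_injective hi (h.trans (Subgroup.map_bot i).symm)

end CfsgLib.CoprimeClass
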